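import Cfsg.Agent.Omega.Half.AppNat

/-!
# A halving which respects a block (text #15037 (N5), end)

`M : NatK F S P V ⊥ k`, `D` a block of `S` on the summands, `i ∈ D ≠ univ`: there is a halving `B ⊇ D`.
-/

set_option autoImplicit false
set_option linter.unusedSectionVars false

namespace Cfsg.Agent.Omega.NO1.NatWr

open Subgroup Cfsg Cfsg.Agent.ZN Cfsg.Agent.Omega.FFThm
open Cfsg.Agent.Omega.Half Cfsg.Agent.Omega.Half.NatA

universe u

variable {G : Type u} [Group G] {F : Type} [Field F] {T H V : Subgroup G} {k : ℕ}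

theorem mv_mul {M : NatK F T H V ⊥ k} (hA : Amb T H V) {g g' : G} {σ ρ : Equiv.Perm (Fin k)}
    (hg' : g' ∈ H) (h1 : Mv M g σ) (h2 : Mv M g' ρ) : Mv M (g * g') (σ * ρ) := by
  intro v hv i
  have e1 : g * g' * v * (g * g')⁻¹ = g * (g' * v * g'⁻¹) * g⁻¹ := by group
  rw [e1, Equiv.Perm.mul_apply, h1 _ (hA.conj_mem hg' hv), h2 v hv]

theorem mv_one {M : NatK F T H V ⊥ k} : Mv M 1 1 := by
  intro v _ i
  rw [one_mul, inv_one, mul_one]
  rfl

theorem mv_unique {M : NatK F T H V ⊥ k} (hA : Amb T H V) {g : G} {σ ρ : Equiv.Perm (Fin k)}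
    (hg : g ∈ H) (h1 : Mv M g σ) (h2 : Mv M g ρ) : σ = ρ := by
  ext1 i
  exact h1.unique M hA hg fun v hv => h2 v hv i

theorem exists_blk_of [Finite G] (M : NatK F T H V ⊥ k) (hA : Amb T H V) (hT : IsPGroup 2 T) {D : Set (Fin k)}
    {i : Fin k} (hi : i ∈ D) (hne : D ≠ Set.univ)
    (hD : ∀ t ∈ T, ∀ σ, Mv M t σ → (σ '' D ∩ D).Nonempty → σ '' D = D) :
    ∃ B : Set (Fin k), Blk M B ∧ D ⊆ B := by
  -- the stabiliser of `D`
  let A : Subgroup G :=
    { carrier := {t | t ∈ T ∧ ∃ π, Mv M t π ∧ π '' D = D}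
      mul_mem' := by
        rintro s t ⟨hs, π, h1, h2⟩ ⟨ht, ρ, h3, h4⟩
        exact ⟨mul_mem hs ht, π * ρ, mv_mul hA (hA.TH ht) h1 h3, by
          rw [Equiv.Perm.coe_mul, Set.image_comp, h4, h2]⟩
      one_mem' := ⟨one_mem T, 1, mv_one, by rw [Equiv.Perm.coe_one, Set.image_id]⟩
      inv_mem' := by
        rintro t ⟨ht, π, h1, h2⟩
        refine ⟨inv_mem ht, π.symm, h1.inv M hA (hA.TH ht), ?_⟩
        conv_lhs => rw [← h2]
        rw [← Set.image_comp]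
        simp }
  have hAm : ∀ t, t ∈ A ↔ t ∈ T ∧ ∃ π, Mv M t π ∧ π '' D = D := fun t => Iff.rfl
  have hAT : A ≤ T := fun t ht => ht.1
  have hTA : ¬ T ≤ A := by
    intro h
    obtain ⟨j, hj⟩ : ∃ j, j ∉ D := by
      by_contra hcon
      push Not at hcon
      exact hne (Set.eq_univ_of_forall hcon)
    obtain ⟨t, ht, h5⟩ := M.trans i j
    obtain ⟨π, hπ⟩ := exists_mv (M := M) hA ht
    have h6 := hπ.unique M hA (hA.TH ht) h5
    obtain ⟨-, ρ, h3, h4⟩ := (hAm t).1 (h ht)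
    rw [← mv_unique hA (hA.TH ht) hπ h3] at h4
    apply hj
    rw [← h4, ← h6]
    exact ⟨i, hi, rfl⟩
  obtain ⟨K, hAK, hKT, hK⟩ := exists_index_two hT hAT hTA
  let B : Set (Fin k) := {q | ∃ s ∈ K, ∃ π, Mv M s π ∧ π i = q}
  have key : ∀ t ∈ T, ∀ π, Mv M t π → (π i ∈ B ↔ t ∈ K) := by
    intro t ht π hπ
    constructor
    · rintro ⟨s, hs, ρ, hρ, h1⟩
      have h3 : Mv M (s⁻¹ * t) (ρ.symm * π) := mv_mul hA (hA.TH ht) (hρ.inv M hA (hA.TH (hKT hs))) hπ
      have h4 : (ρ.symm * π) i = i := by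
        rw [Equiv.Perm.mul_apply, ← h1, Equiv.symm_apply_apply]
      have h2 : s⁻¹ * t ∈ A := by
        refine ⟨mul_mem (inv_mem (hKT hs)) ht, _, h3, ?_⟩
        exact hD _ (mul_mem (inv_mem (hKT hs)) ht) _ h3 ⟨i, ⟨i, hi, h4⟩, hi⟩
      have h3 := mul_mem hs (hAK h2)
      rwa [mul_inv_cancel_left] at h3
    · intro h
      exact ⟨t, h, π, hπ, rfl⟩
  refine ⟨B, ⟨⟨i, 1, one_mem K, 1, mv_one, rfl⟩, ?_, ?_⟩, ?_⟩
  · have : ∃ t ∈ T, t ∉ K := by
      by_contra h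
      push Not at h
      have : K.relIndex T = 1 := relIndex_eq_one.2 h
      omega
    obtain ⟨t, ht, htK⟩ := this
    obtain ⟨π, hπ⟩ := exists_mv (M := M) hA ht
    exact ⟨π i, fun h => htK ((key t ht π hπ).1 h)⟩
  · intro t ht π hπ
    have himg : ∀ q, q ∈ π '' B ↔ (t ∈ K ↔ q ∈ B) := by
      intro q
      obtain ⟨s, hs, h5⟩ := M.trans i q
      obtain ⟨ρ, hρ⟩ := exists_mv (M := M) hA hs
      have h6 : ρ i = q := hρ.unique M hA (hA.TH hs) h5
      rw [← h6, key s hs ρ hρ]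
      have h1 : ρ i ∈ π '' B ↔ (π.symm * ρ) i ∈ B := by
        constructor
        · rintro ⟨x, hx, h2⟩
          have : (π.symm * ρ) i = x := by
            rw [Equiv.Perm.mul_apply, ← h2, Equiv.symm_apply_apply]
          rwa [this]
        · intro h
          exact ⟨_, h, π.apply_symm_apply _⟩
      rw [h1, key (t⁻¹ * s) (mul_mem (inv_mem ht) hs) _
        (mv_mul hA (hA.TH hs) (hπ.inv M hA (hA.TH ht)) hρ),
        mul_mem_of_index_two hK (inv_mem ht) hs, inv_mem_iff]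
    by_cases htK : t ∈ K
    · left
      ext q
      rw [himg q]
      exact ⟨fun h => h.1 htK, fun h => iff_of_true htK h⟩
    · right
      ext q
      rw [himg q]
      exact ⟨fun h h1 => htK (h.2 h1), fun h => iff_of_false htK h⟩
  · intro j hj
    obtain ⟨t, ht, h5⟩ := M.trans i j
    obtain ⟨π, hπ⟩ := exists_mv (M := M) hA ht
    have h6 : π i = j := hπ.unique M hA (hA.TH ht) h5
    rw [← h6, key t ht π hπ]
    exact hAK ⟨ht, π, hπ, hD t ht π hπ ⟨j, ⟨i, hi, h6⟩, hj⟩⟩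

end Cfsg.Agent.Omega.NO1.NatWr
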