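import Mathlib

/-!
# THEOREM WR of #15037 (helper675), step (N5): transvections on `Z_Q` and the halvings

`C` acts on the elementary abelian `2`-group `W` (written additively, `= Z_Q`), `z i` (`i : ι`) are conjugate
vectors of `W`, `v i : C` acts as the transvection `w ↦ w + ν i w • z i` and centralises all the `z j`.  For a
halving `I₁` of `ι` put `y = ∑ i ∈ I₁, z i`; `C` fixes `∑ i, z i`, and `(KL)`: if `c` fixes `y` then
`v i * (c * v i * c⁻¹)` is a `2`-element.  Then the numbers of the `l ∈ I₁` and of the `l ∉ I₁` such that `z l`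
is in the component of `z i` are odd.  If this holds for all halvings of a transitive `2`-group `S`, then
`|ι| = 2`.
-/

set_option autoImplicit false

namespace Cfsg.Agent.Omega.NO1.WR.Comp

variable {C W : Type*} [Group C] [AddCommGroup W] [DistribMulAction C W]

theorem zc (c : ZMod 2) : c = 0 ∨ c = 1 := by
  fin_cases c
  · exact Or.inl rfl
  · exact Or.inr rfl

/-- `c` acts as the transvection `w ↦ w + φ w • p` -/
def TV (c : C) (φ : W →+ ZMod 2) (p : W) : Prop :=
  ∀ w, (φ w = 0 → c • w = w) ∧ (φ w = 1 → c • w = w + p)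

/-- the functionals of the transvections with centre `p` induced by `C` -/
def Phi (C : Type*) {W : Type*} [Group C] [AddCommGroup W] [DistribMulAction C W] (p : W) :
    Set (W →+ ZMod 2) := {φ | ∃ c : C, TV c φ p}

theorem mem_Phi {p : W} {φ : W →+ ZMod 2} : φ ∈ Phi C p ↔ ∃ c : C, TV c φ p := Iff.rfl

/-- the adjacency -/
def Adj (C : Type*) {W : Type*} [Group C] [AddCommGroup W] [DistribMulAction C W] (p q : W) : Prop :=
  ∃ φ ∈ Phi C p, φ q = 1

namespace TV

variable {c d : C} {φ ψ : W →+ ZMod 2} {p q : W}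

theorem of_zero (h : TV c φ p) {w : W} (hw : φ w = 0) : c • w = w := (h w).1 hw

theorem of_one (h : TV c φ p) {w : W} (hw : φ w = 1) : c • w = w + p := (h w).2 hw

theorem self (h : TV c φ p) (h2 : p + p = 0) (hp : p ≠ 0) : φ p = 0 := by
  refine (zc _).resolve_right fun h1 => hp ?_
  have h3 := h.of_one h1
  rw [h2] at h3
  have h4 : c⁻¹ • (c • p) = c⁻¹ • (0 : W) := by rw [h3]
  rwa [inv_smul_smul, smul_zero] at h4

theorem inv (h : TV c φ p) (h2 : p + p = 0) (hp : p ≠ 0) : TV c⁻¹ φ p := by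
  intro w
  constructor
  · intro h0
    rw [inv_smul_eq_iff, h.of_zero h0]
  · intro h1
    rw [inv_smul_eq_iff, smul_add, h.of_one h1, h.of_zero (h.self h2 hp), add_assoc, h2, add_zero]

theorem map (h : TV c φ p) (hp : φ p = 0) (w : W) : φ (c • w) = φ w := by
  rcases zc (φ w) with h0 | h1
  · rw [h.of_zero h0]
  · rw [h.of_one h1, map_add, hp, add_zero]

/-- product of two transvections with the same centre -/
theorem mul (h : TV c φ p) (h' : TV d ψ p) (h2 : p + p = 0) (hp : p ≠ 0) : TV (c * d) (φ + ψ) p := by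
  have hs := h.self h2 hp
  have e11 : (1 : ZMod 2) + 1 = 0 := by decide
  intro w
  rw [AddMonoidHom.add_apply, mul_smul]
  rcases zc (φ w) with h0 | h1 <;> rcases zc (ψ w) with k0 | k1
  · rw [h0, k0, h'.of_zero k0, h.of_zero h0]
    refine ⟨fun _ => rfl, fun hx => ?_⟩
    rw [add_zero] at hx
    exact absurd hx (by decide)
  · rw [h0, k1, h'.of_one k1, smul_add, h.of_zero h0, h.of_zero hs]
    refine ⟨fun hx => ?_, fun _ => rfl⟩
    rw [zero_add] at hx
    exact absurd hx (by decide)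
  · rw [h1, k0, h'.of_zero k0, h.of_one h1]
    refine ⟨fun hx => ?_, fun _ => rfl⟩
    rw [add_zero] at hx
    exact absurd hx (by decide)
  · rw [h1, k1, h'.of_one k1, smul_add, h.of_one h1, h.of_zero hs, add_assoc, h2, add_zero]
    refine ⟨fun _ => rfl, fun hx => ?_⟩
    rw [e11] at hx
    exact absurd hx (by decide)

/-- the conjugate of a transvection -/
theorem conj (h : TV c φ p) (g : C) :
    TV (g * c * g⁻¹) (φ.comp (DistribSMul.toAddMonoidHom W g⁻¹)) (g • p) := by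
  intro w
  rw [AddMonoidHom.comp_apply, DistribSMul.toAddMonoidHom_apply, mul_smul, mul_smul]
  constructor
  · intro h0
    rw [h.of_zero h0, smul_inv_smul]
  · intro h1
    rw [h.of_one h1, smul_add, smul_inv_smul]

theorem congr (h : TV c φ p) (h' : ∀ w, ψ w = φ w) : TV c ψ p := by
  intro w
  rw [h' w]
  exact h w

end TV

theorem Phi_conj {p : W} {φ : W →+ ZMod 2} (h : φ ∈ Phi C p) (g : C) :
    φ.comp (DistribSMul.toAddMonoidHom W g⁻¹) ∈ Phi C (g • p) := by
  obtain ⟨c, hc⟩ := h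
  exact ⟨_, hc.conj g⟩

theorem finite_hom [Finite W] : Finite (W →+ ZMod 2) :=
  Finite.of_injective (fun f : W →+ ZMod 2 => (f : W → ZMod 2)) DFunLike.coe_injective

theorem ncard_le [Finite W] (p : W) (g : C) : (Phi C p).ncard ≤ (Phi C (g • p)).ncard := by
  have : Finite (W →+ ZMod 2) := finite_hom
  refine Set.ncard_le_ncard_of_injOn (fun φ => φ.comp (DistribSMul.toAddMonoidHom W g⁻¹))
    (fun φ hφ => Phi_conj hφ g) ?_ (Set.toFinite _)
  intro φ _ ψ _ h
  ext w
  have h1 := DFunLike.congr_fun h (g • w)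
  simpa using h1

theorem ncard_eq [Finite W] (p : W) (g : C) : (Phi C (g • p)).ncard = (Phi C p).ncard := by
  refine le_antisymm ?_ (ncard_le p g)
  have := ncard_le (g • p) g⁻¹
  rwa [inv_smul_smul] at this

/-- symmetry of the adjacency on an orbit -/
theorem Adj.symm [Finite W] (h2 : ∀ w : W, w + w = 0) {p : W} (hp : p ≠ 0) (g : C)
    (h : Adj C p (g • p)) : Adj C (g • p) p := by
  have : Finite (W →+ ZMod 2) := finite_hom
  set q := g • p with hq
  have hq0 : q ≠ 0 := by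
    rw [hq]
    intro h0
    apply hp
    have := congrArg (fun w => g⁻¹ • w) h0
    simpa using this
  obtain ⟨φ, ⟨c, hc⟩, hφ⟩ := h
  by_contra hno
  have hall : ∀ ψ ∈ Phi C q, ψ p = 0 := fun ψ hψ =>
    (zc _).resolve_right fun h1 => hno ⟨ψ, hψ, h1⟩
  have hsub : Phi C q ⊆ Phi C p := by
    rintro ψ ⟨d, hd⟩
    have hψp := hall ψ ⟨d, hd⟩
    have hψq := hd.self (h2 q) hq0
    have hci := hc.inv (h2 p) hp
    have h3 : TV (c * d * c⁻¹) ψ (q + p) := by
      have := (hd.conj c)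
      rw [hc.of_one hφ] at this
      refine this.congr fun w => ?_
      rw [AddMonoidHom.comp_apply, DistribSMul.toAddMonoidHom_apply]
      rcases zc (φ w) with h0 | h1
      · rw [hci.of_zero h0]
      · rw [hci.of_one h1, map_add, hψp, add_zero]
    refine ⟨d * (c * d * c⁻¹), fun w => ?_⟩
    rw [mul_smul]
    constructor
    · intro h0
      rw [h3.of_zero h0, hd.of_zero h0]
    · intro h1
      rw [h3.of_one h1, smul_add, hd.of_one h1, smul_add, hd.of_zero hψq, hd.of_zero hψp]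
      calc w + q + (q + p) = w + (q + q) + p := by abel
        _ = w + p := by rw [h2, add_zero]
  have heq : Phi C q = Phi C p :=
    Set.eq_of_subset_of_ncard_le hsub (ncard_eq p g).ge (Set.toFinite _)
  have h4 : φ ∈ Phi C q := heq ▸ (⟨c, hc⟩ : φ ∈ Phi C p)
  obtain ⟨e, he⟩ := h4
  rw [he.self (h2 q) hq0] at hφ
  exact absurd hφ (by decide)

/-- the orbit of the centres -/
def PP (C : Type*) {W : Type*} [Group C] [AddCommGroup W] [DistribMulAction C W] (z0 : W) : Set W :=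
  {p | ∃ g : C, g • z0 = p}

theorem PP_smul {z0 p : W} (h : p ∈ PP C z0) (g : C) : g • p ∈ PP C z0 := by
  obtain ⟨k, rfl⟩ := h
  exact ⟨g * k, mul_smul _ _ _⟩

theorem PP_exists {z0 p q : W} (hp : p ∈ PP C z0) (hq : q ∈ PP C z0) : ∃ g : C, g • p = q := by
  obtain ⟨k, rfl⟩ := hp
  obtain ⟨l, rfl⟩ := hq
  exact ⟨l * k⁻¹, by rw [← mul_smul, inv_mul_cancel_right]⟩

theorem PP_ne {z0 p : W} (h0 : z0 ≠ 0) (hp : p ∈ PP C z0) : p ≠ 0 := by
  obtain ⟨k, rfl⟩ := hp
  intro h
  apply h0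
  have := congrArg (fun w => k⁻¹ • w) h
  simpa using this

theorem adj_symm [Finite W] (h2 : ∀ w : W, w + w = 0) {z0 p q : W} (h0 : z0 ≠ 0) (hp : p ∈ PP C z0)
    (hq : q ∈ PP C z0) (h : Adj C p q) : Adj C q p := by
  obtain ⟨g, rfl⟩ := PP_exists hp hq
  exact h.symm h2 (PP_ne h0 hp) g

/-- connected in `PP` -/
def Conn (C : Type*) {W : Type*} [Group C] [AddCommGroup W] [DistribMulAction C W] (z0 : W) : W → W → Prop :=
  Relation.ReflTransGen fun p q => p ∈ PP C z0 ∧ q ∈ PP C z0 ∧ Adj C p q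

theorem Conn.symm [Finite W] (h2 : ∀ w : W, w + w = 0) {z0 p q : W} (h0 : z0 ≠ 0)
    (h : Conn C z0 p q) : Conn C z0 q p := by
  induction h with
  | refl => exact Relation.ReflTransGen.refl
  | tail _ h1 ih =>
    exact (Relation.ReflTransGen.single ⟨h1.2.1, h1.1, adj_symm h2 h0 h1.1 h1.2.1 h1.2.2⟩).trans ih

theorem Adj.smul {p q : W} (h : Adj C p q) (g : C) : Adj C (g • p) (g • q) := by
  obtain ⟨φ, hφ, h1⟩ := h
  refine ⟨_, Phi_conj hφ g, ?_⟩
  rw [AddMonoidHom.comp_apply, DistribSMul.toAddMonoidHom_apply, inv_smul_smul, h1]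

theorem Conn.smul {z0 p q : W} (h : Conn C z0 p q) (g : C) : Conn C z0 (g • p) (g • q) := by
  induction h with
  | refl => exact Relation.ReflTransGen.refl
  | tail _ h1 ih => exact ih.tail ⟨PP_smul h1.1 g, PP_smul h1.2.1 g, h1.2.2.smul g⟩

/-- the data of a halving -/
structure Half (C : Type*) {W ι : Type*} [Group C] [AddCommGroup W] [DistribMulAction C W] [Fintype ι]
    (z0 : W) (z : ι → W) (v : ι → C) (ν : ι → W →+ ZMod 2) (I₁ : Finset ι) : Prop where
  two : ∀ w : W, w + w = 0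
  ne : z0 ≠ 0
  mem : ∀ i, z i ∈ PP C z0
  tv : ∀ i, TV (v i) (ν i) (z i)
  cen : ∀ i j, ν i (z j) = 0
  hit : ∀ i, ∃ q ∈ PP C z0, ν i q = 1
  fix : ∀ c : C, c • (∑ i, z i) = ∑ i, z i
  kl : ∀ i, ∀ c : C, c • (∑ j ∈ I₁, z j) = ∑ j ∈ I₁, z j → ∃ m : ℕ, (v i * (c * v i * c⁻¹)) ^ 2 ^ m = 1

namespace Half

variable {ι : Type*} [Fintype ι] {z0 : W} {z : ι → W} {v : ι → C} {ν : ι → W →+ ZMod 2} {I₁ : Finset ι}

variable (h : Half C z0 z v ν I₁)
include h

theorem cen_y (i : ι) : ν i (∑ j ∈ I₁, z j) = 0 := by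
  rw [map_sum]
  exact Finset.sum_eq_zero fun j _ => h.cen i j

/-- `(KL)` for a transvection: step one -/
theorem kl_one {i : ι} {q : W} (hq : q ∈ PP C z0) (hν : ν i q = 1) {φ : W →+ ZMod 2} (hφ : φ ∈ Phi C q)
    (hy : φ (∑ j ∈ I₁, z j) = 0) : φ (z i) = 0 := by
  refine (zc _).resolve_right fun h1 => ?_
  obtain ⟨c, hc⟩ := hφ
  have hq0 := PP_ne h.ne hq
  obtain ⟨m, hm⟩ := h.kl i c (hc.of_zero hy)
  have hci := hc.inv (h.two q) hq0
  have hqq := hc.self (h.two q) hq0
  have ht := h.tv i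
  have hνz := h.cen i i
  -- the action of `c v c⁻¹`
  have hk : TV (c * v i * c⁻¹) ((ν i).comp (DistribSMul.toAddMonoidHom W c⁻¹)) (z i + q) := by
    have := ht.conj c
    rwa [hc.of_one h1] at this
  have hk1 : (c * v i * c⁻¹) • z i = q := by
    rw [hk.of_one, ← add_assoc, h.two, zero_add]
    rw [AddMonoidHom.comp_apply, DistribSMul.toAddMonoidHom_apply, hci.of_one h1, map_add, hνz, hν, zero_add]
  have hk2 : (c * v i * c⁻¹) • q = z i := by
    rw [hk.of_one]
    · calc q + (z i + q) = z i + (q + q) := by abel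
        _ = z i := by rw [h.two, add_zero]
    · rw [AddMonoidHom.comp_apply, DistribSMul.toAddMonoidHom_apply, hci.of_zero hqq, hν]
  set g : C := v i * (c * v i * c⁻¹) with hg
  have hg1 : g • z i = q + z i := by rw [hg, mul_smul, hk1, ht.of_one hν]
  have hg2 : g • q = z i := by rw [hg, mul_smul, hk2, ht.of_zero hνz]
  have hg3 : g ^ 3 • z i = z i := by
    rw [pow_succ', pow_two, mul_smul g (g * g), mul_smul g g, hg1, smul_add, hg1, hg2]
    have : z i + (q + z i) = q := by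
      calc z i + (q + z i) = q + (z i + z i) := by abel
        _ = q := by rw [h.two, add_zero]
    rw [this, hg2]
  have hmem3 : g ^ 3 ∈ MulAction.stabilizer C (z i) := hg3
  have hmem2 : g ^ 2 ^ m ∈ MulAction.stabilizer C (z i) := by rw [hm]; exact one_mem _
  have hcop : IsCoprime (3 : ℤ) ((2 : ℤ) ^ m) := by
    refine IsCoprime.pow_right ?_
    exact ⟨1, -1, by norm_num⟩
  obtain ⟨a, b, hab⟩ := hcop
  have hmem : g ∈ MulAction.stabilizer C (z i) := by
    have e1 : g = (g ^ 3) ^ a * (g ^ 2 ^ m) ^ b := by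
      rw [← zpow_natCast g 3, ← zpow_natCast g (2 ^ m), ← zpow_mul, ← zpow_mul, ← zpow_add]
      have : ((3 : ℕ) : ℤ) * a + ((2 ^ m : ℕ) : ℤ) * b = 1 := by
        push_cast
        linarith
      rw [this, zpow_one]
    rw [e1]
    exact mul_mem (zpow_mem hmem3 a) (zpow_mem hmem2 b)
  have h5 : g • z i = z i := hmem
  rw [hg1] at h5
  exact hq0 (by simpa using h5)

variable [Finite W]

/-- on `Phi q`, `ν i q = 1`, the vectors `z i` and `y` agree -/
theorem type_a {i : ι} {q : W} (hq : q ∈ PP C z0) (hν : ν i q = 1) {φ : W →+ ZMod 2} (hφ : φ ∈ Phi C q) :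
    φ (z i) = φ (∑ j ∈ I₁, z j) := by
  have e11 : (1 : ZMod 2) + 1 = 0 := by decide
  rcases zc (φ (∑ j ∈ I₁, z j)) with h0 | h1
  · rw [h0, h.kl_one hq hν hφ h0]
  · rw [h1]
    refine (zc _).resolve_left fun h2 => ?_
    obtain ⟨ψ, hψ, hψ1⟩ := adj_symm h.two h.ne (h.mem i) hq ⟨ν i, ⟨v i, h.tv i⟩, hν⟩
    have hψy : ψ (∑ j ∈ I₁, z j) = 1 := by
      refine (zc _).resolve_left fun h3 => ?_
      rw [h.kl_one hq hν hψ h3] at hψ1
      exact absurd hψ1 (by decide)
    have hsum : φ + ψ ∈ Phi C q := by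
      obtain ⟨c, hc⟩ := hφ
      obtain ⟨d, hd⟩ := hψ
      exact ⟨c * d, hc.mul hd (h.two q) (PP_ne h.ne hq)⟩
    have h4 := h.kl_one hq hν hsum (by rw [AddMonoidHom.add_apply, h1, hψy, e11])
    rw [AddMonoidHom.add_apply, h2, hψ1, zero_add] at h4
    exact absurd h4 (by decide)

/-- `r` is adjacent to some `q` with `ν i q = 1` -/
def Near (C : Type*) {W : Type*} [Group C] [AddCommGroup W] [DistribMulAction C W] (z0 : W)
    (μ : W →+ ZMod 2) (r : W) : Prop := ∃ q ∈ PP C z0, μ q = 1 ∧ Adj C r q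

omit h [Finite W] in
theorem add_mem {q r : W} (hr : r ∈ PP C z0) (hqr : Adj C q r) : r + q ∈ PP C z0 := by
  obtain ⟨ψ, ⟨d, hd⟩, hψ⟩ := hqr
  rw [← hd.of_one hψ]
  exact PP_smul hr d

theorem near_val {i : ι} {r : W} (hr : r ∈ PP C z0) (hn : Near C z0 (ν i) r) {φ : W →+ ZMod 2}
    (hφ : φ ∈ Phi C r) : φ (z i) = φ (∑ j ∈ I₁, z j) := by
  rcases zc (ν i r) with h0 | h1
  · obtain ⟨q, hq, hν, hrq⟩ := hn
    have hqr := adj_symm h.two h.ne hr hq hrq
    obtain ⟨ψ, ⟨d, hd⟩, hψ⟩ := id hqr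
    have hdi := hd.inv (h.two q) (PP_ne h.ne hq)
    have hmem : d • r ∈ PP C z0 := PP_smul hr d
    have hdr : d • r = r + q := hd.of_one hψ
    have hν' : ν i (d • r) = 1 := by rw [hdr, map_add, h0, hν, zero_add]
    have h3 := h.type_a hmem hν' (Phi_conj hφ d)
    have h4 := h.type_a hq hν (⟨d, hd⟩ : ψ ∈ Phi C q)
    rw [AddMonoidHom.comp_apply, DistribSMul.toAddMonoidHom_apply, AddMonoidHom.comp_apply,
      DistribSMul.toAddMonoidHom_apply] at h3
    rcases zc (ψ (z i)) with k0 | k1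
    · rw [hdi.of_zero k0, hdi.of_zero (h4 ▸ k0)] at h3
      exact h3
    · rw [hdi.of_one k1, hdi.of_one (h4 ▸ k1), map_add, map_add] at h3
      exact add_right_cancel h3
  · exact h.type_a hr h1 hφ

theorem near_step {i : ι} {r r' : W} (hr : r ∈ PP C z0) (hr' : r' ∈ PP C z0) (hn : Near C z0 (ν i) r)
    (ha : Adj C r r') : Near C z0 (ν i) r' := by
  have ha' := adj_symm h.two h.ne hr hr' ha
  rcases zc (ν i r) with h0 | h1
  · obtain ⟨q, hq, hν, hrq⟩ := hn
    have hqr := adj_symm h.two h.ne hr hq hrq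
    obtain ⟨φ, hφ, hφr⟩ := ha'
    rcases zc (φ q) with k0 | k1
    · refine ⟨r + q, add_mem hr hqr, ?_, φ, hφ, ?_⟩
      · rw [map_add, h0, hν, zero_add]
      · rw [map_add, k0, hφr, add_zero]
    · exact ⟨q, hq, hν, φ, hφ, k1⟩
  · exact ⟨r, hr, h1, ha'⟩

omit [Finite W] in
theorem near_base (i : ι) : Near C z0 (ν i) (z i) := by
  obtain ⟨q, hq, hν⟩ := h.hit i
  exact ⟨q, hq, hν, ν i, ⟨v i, h.tv i⟩, hν⟩

theorem conn_val {i : ι} {r : W} (hr : Conn C z0 (z i) r) :
    r ∈ PP C z0 ∧ Near C z0 (ν i) r := by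
  induction hr with
  | refl => exact ⟨h.mem i, h.near_base i⟩
  | tail _ h1 ih => exact ⟨h1.2.1, h.near_step ih.1 h1.2.1 ih.2 h1.2.2⟩

open Classical in
/-- **(N5)**: both halves of the component of `z i` are odd -/
theorem odd_card (i : ι) :
    Odd {l ∈ I₁ | Conn C z0 (z i) (z l)}.card ∧
    Odd {l ∈ (Finset.univ \ I₁) | Conn C z0 (z i) (z l)}.card := by
  obtain ⟨q, hq, hν⟩ := h.hit i
  have hzq : Conn C z0 (z i) q := Relation.ReflTransGen.single ⟨h.mem i, hq, ν i, ⟨v i, h.tv i⟩, hν⟩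
  obtain ⟨φ, hφ, hφ1⟩ := adj_symm h.two h.ne (h.mem i) hq ⟨ν i, ⟨v i, h.tv i⟩, hν⟩
  have hy : φ (∑ j ∈ I₁, z j) = 1 := by rw [← h.type_a hq hν hφ, hφ1]
  have hall : φ (∑ j, z j) = 0 := by
    obtain ⟨c, hc⟩ := hφ
    refine (zc _).resolve_right fun h1 => PP_ne h.ne hq ?_
    have h3 := hc.of_one h1
    rw [h.fix c] at h3
    simpa using h3.symm
  have hy' : φ (∑ j ∈ Finset.univ \ I₁, z j) = 1 := by
    have h3 : ∑ j ∈ Finset.univ \ I₁, z j + ∑ j ∈ I₁, z j = ∑ j, z j :=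
      Finset.sum_sdiff (Finset.subset_univ I₁)
    have h4 := congrArg φ h3
    rw [map_add, hall, hy] at h4
    refine (zc _).resolve_left fun h5 => ?_
    rw [h5, zero_add] at h4
    exact absurd h4 (by decide)
  have hval : ∀ l, φ (z l) = if Conn C z0 (z i) (z l) then 1 else 0 := by
    intro l
    split_ifs with hl
    · have h3 : Conn C z0 (z l) q := (hl.symm h.two h.ne).trans hzq
      obtain ⟨h4, h5⟩ := h.conn_val h3
      rw [h.near_val h4 h5 hφ, hy]
    · exact (zc _).resolve_right fun h1 => hl (hzq.tail ⟨hq, h.mem l, φ, hφ, h1⟩)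
  have key : ∀ s : Finset ι, φ (∑ j ∈ s, z j) = 1 →
      Odd {l ∈ s | Conn C z0 (z i) (z l)}.card := by
    intro s hs
    rw [map_sum] at hs
    have h3 : ∑ j ∈ s, φ (z j) = (({l ∈ s | Conn C z0 (z i) (z l)}.card : ℕ) : ZMod 2) := by
      rw [Finset.card_filter, Nat.cast_sum]
      refine Finset.sum_congr rfl fun l _ => ?_
      rw [hval l]
      split_ifs <;> simp
    rw [h3] at hs
    rw [← Nat.not_even_iff_odd, even_iff_two_dvd, ← ZMod.natCast_eq_zero_iff, hs]
    decide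
  exact ⟨key _ hy, key _ hy'⟩

end Half

end Cfsg.Agent.Omega.NO1.WR.Comp
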