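import Cfsg.Agent.Omega.NO1.WR.Base
import Cfsg.Agent.Omega.NO1.WR.BlkOf
import Cfsg.Agent.Omega.NO1.WR.Comp
import Cfsg.Agent.Omega.NO1.NatQuot
import Cfsg.Agent.Omega.IId.Fac

/-!
# N1, `V_P` a sum of `k ≥ 3` natural `SL₂(2)`-modules, case (Q): impossible (text #15037 (N3), (N5), helper675)

`main_two` : `Cfg S P`, `NatK F S P V ⊥ k`, `3 ≤ k`, `|F| = 2`, `V ∩ Q = ∏ L_i` imply `False`.
-/

set_option autoImplicit false
set_option linter.unusedSectionVars false

namespace Cfsg.Agent.Omega.NO1.NatWr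

open Subgroup Cfsg Cfsg.Agent.ZN Cfsg.Agent.Omega.MinPar Cfsg.Agent.Omega.FFThm
open Cfsg.Agent.Omega.Half Cfsg.Agent.Omega.Half.NatA
open Cfsg.Agent.Omega.NoFF.LinesPlug (CC)

universe u

variable {G : Type u} [Group G] [Finite G] {S : Sylow 2 G} {P : Subgroup G} {F : Type} [Field F] {k : ℕ}

/-- The situation (Q) with `|F| = 2`. -/
structure QTwo (S : Sylow 2 G) (P : Subgroup G) (F : Type) [Field F] (k : ℕ) where
  cfg : Cfg S P
  M : NatK F (S : Subgroup G) P (zl (S : Subgroup G) P) ⊥ k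
  two : ∀ x : F, x = 0 ∨ x = 1
  hE : ∀ v ∈ zl (S : Subgroup G) P, v ∈ o2 (CC (S : Subgroup G)) ↔ ∀ i, M.e v i 1 = 0

theorem zmod_or (c : ZMod 2) : c = 0 ∨ c = 1 := by
  fin_cases c
  · exact Or.inl rfl
  · exact Or.inr rfl

namespace QTwo

variable (q : QTwo S P F k)

include q

theorem one_add_one : (1 : F) + 1 = 0 := by
  rcases q.two (1 + 1) with h | h
  · exact h
  · exfalso
    exact one_ne_zero (add_eq_left.1 h)

theorem eq_of_iff {x y : F} (h : x = 0 ↔ y = 0) : x = y := by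
  rcases q.two x with h1 | h1
  · rw [h1, h.1 h1]
  · rcases q.two y with h2 | h2
    · exfalso
      rw [h.2 h2] at h1
      exact zero_ne_one h1
    · rw [h1, h2]

theorem A : Amb (S : Subgroup G) P (zl (S : Subgroup G) P) := amb q.cfg

/-- `z A`: the product of the `z_i`, `i ∈ A` -/
noncomputable def za (A : Set (Fin k)) : G := (exists_fac q.M A fun _ => ![1, 0]).choose

theorem za_mem (A : Set (Fin k)) : q.za A ∈ fac q.M A := (exists_fac q.M A fun _ => ![1, 0]).choose_spec.1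

theorem za_in {A : Set (Fin k)} {i : Fin k} (hi : i ∈ A) : q.M.e (q.za A) i = ![1, 0] :=
  (exists_fac q.M A fun _ => ![1, 0]).choose_spec.2 i hi

theorem za_out {A : Set (Fin k)} {i : Fin k} (hi : i ∉ A) : q.M.e (q.za A) i = 0 := (q.za_mem A).2 i hi

theorem za_V (A : Set (Fin k)) : q.za A ∈ zl (S : Subgroup G) P := (q.za_mem A).1

theorem za_Q (A : Set (Fin k)) : q.za A ∈ o2 (CC (S : Subgroup G)) := by
  rw [q.hE _ (q.za_V A)]
  intro i
  by_cases hi : i ∈ A
  · rw [q.za_in hi]; rfl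
  · rw [q.za_out hi]; rfl

theorem za_ne {A : Set (Fin k)} {i : Fin k} (hi : i ∈ A) : q.M.e (q.za A) i ≠ 0 := by
  rw [q.za_in hi]
  intro h
  exact one_ne_zero (congrFun h 0)

/-- `v_i ∈ V_i - L_i` -/
noncomputable def vi (i : Fin k) : G := (exists_fac q.M {i} fun _ => ![0, 1]).choose

theorem vi_mem (i : Fin k) : q.vi i ∈ fac q.M {i} := (exists_fac q.M {i} fun _ => ![0, 1]).choose_spec.1

theorem vi_in (i : Fin k) : q.M.e (q.vi i) i = ![0, 1] :=
  (exists_fac q.M {i} fun _ => ![0, 1]).choose_spec.2 i rfl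

theorem vi_out {i j : Fin k} (h : j ≠ i) : q.M.e (q.vi i) j = 0 := (q.vi_mem i).2 j h

theorem vi_V (i : Fin k) : q.vi i ∈ zl (S : Subgroup G) P := (q.vi_mem i).1

theorem vi_C (i : Fin k) : q.vi i ∈ CC (S : Subgroup G) := q.cfg.V_le_CC (q.vi_V i)

theorem vi_not (i : Fin k) : q.vi i ∉ o2 (CC (S : Subgroup G)) := by
  rw [q.hE _ (q.vi_V i)]
  intro h
  have := h i
  rw [q.vi_in] at this
  exact one_ne_zero this

theorem Q_P : o2 (CC (S : Subgroup G)) ≤ P := q.cfg.Q_le_S.trans q.cfg.S_le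

theorem conj_V {f w : G} (hf : f ∈ P) (hw : w ∈ zl (S : Subgroup G) P) : f * w * f⁻¹ ∈ zl (S : Subgroup G) P :=
  q.A.conj_mem hf hw

/-- `[V, Q] ≤ V ∩ Q` -/
theorem comm_mem {f w : G} (hf : f ∈ o2 (CC (S : Subgroup G))) (hw : w ∈ zl (S : Subgroup G) P) :
    f * w * f⁻¹ * w⁻¹ ∈ zl (S : Subgroup G) P ∧ f * w * f⁻¹ * w⁻¹ ∈ o2 (CC (S : Subgroup G)) := by
  refine ⟨mul_mem (q.conj_V (q.Q_P hf) hw) (inv_mem hw), ?_⟩
  have h1 : w * f⁻¹ * w⁻¹ ∈ o2 (CC (S : Subgroup G)) :=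
    (mem_normalizer_iff.1 (le_normalizer_o2 _ (q.cfg.V_le_CC hw)) _).1 (inv_mem hf)
  have e : f * w * f⁻¹ * w⁻¹ = f * (w * f⁻¹ * w⁻¹) := by group
  rw [e]
  exact mul_mem hf h1

theorem row_one {f w : G} (hf : f ∈ o2 (CC (S : Subgroup G))) (hw : w ∈ zl (S : Subgroup G) P) (i : Fin k) :
    q.M.e (f * w * f⁻¹) i 1 = q.M.e w i 1 := by
  obtain ⟨h1, h2⟩ := q.comm_mem hf hw
  have h3 := (q.hE _ h1).1 h2 i
  rw [q.M.mul _ (q.conj_V (q.Q_P hf) hw) _ (inv_mem hw), e_inv q.M hw] at h3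
  have h4 : q.M.e (f * w * f⁻¹) i 1 - q.M.e w i 1 = 0 := by
    rw [sub_eq_add_neg]
    exact h3
  exact sub_eq_zero.1 h4

theorem perm_one {f : G} (hf : f ∈ o2 (CC (S : Subgroup G))) {σ : Equiv.Perm (Fin k)} (hσ : Mv q.M f σ)
    (i : Fin k) : σ i = i := by
  obtain ⟨j, hj⟩ := σ.surjective i
  have h1 : q.M.e (f * q.vi i * f⁻¹) i ≠ 0 := by
    intro h0
    have h2 := q.row_one hf (q.vi_V i) i
    rw [h0, q.vi_in] at h2
    exact one_ne_zero h2.symm
  have h3 := hσ (q.vi i) (q.vi_V i) j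
  rw [hj] at h3
  have h4 : q.M.e (q.vi i) j ≠ 0 := fun h0 => h1 (h3.2 h0)
  have h5 : j = i := by
    by_contra hne
    exact h4 (q.vi_out hne)
  rw [← h5] at hj ⊢
  exact hj

theorem coord_iff {f w : G} (hf : f ∈ o2 (CC (S : Subgroup G))) (hw : w ∈ zl (S : Subgroup G) P) (i : Fin k) :
    q.M.e (f * w * f⁻¹) i = 0 ↔ q.M.e w i = 0 := by
  obtain ⟨σ, hσ⟩ := q.M.perm f (q.Q_P hf)
  have h1 := hσ w hw i
  rwa [q.perm_one hf hσ] at h1

/-- `Q` centralises `V ∩ Q` -/
theorem cent {f w : G} (hf : f ∈ o2 (CC (S : Subgroup G))) (hw : w ∈ zl (S : Subgroup G) P)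
    (hwQ : w ∈ o2 (CC (S : Subgroup G))) : f * w * f⁻¹ = w := by
  apply inj q.M (q.conj_V (q.Q_P hf) hw) hw
  funext i
  have h1 : q.M.e w i 1 = 0 := (q.hE w hw).1 hwQ i
  have h2 : q.M.e (f * w * f⁻¹) i 1 = 0 := by rw [q.row_one hf hw, h1]
  have h3 := q.coord_iff hf hw i
  have h4 : ∀ x : Fin 2 → F, x 1 = 0 → (x = 0 ↔ x 0 = 0) := by
    intro x hx
    constructor
    · intro h; rw [h]; rfl
    · intro h; exact NatPair.ext2 h hx
  apply NatPair.ext2
  · apply q.eq_of_iff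
    rw [← h4 _ h1, ← h4 _ h2]
    exact h3
  · rw [h1, h2]

/-- `V ∩ Q ≤ Z_Q` -/
theorem mem_zq {w : G} (hw : w ∈ zl (S : Subgroup G) P) (hwQ : w ∈ o2 (CC (S : Subgroup G))) :
    w ∈ zc (o2 (CC (S : Subgroup G))) := by
  refine MinSimple.VModule.mem_zc.2 ⟨hwQ, fun f hf => ?_, q.A.sq w hw⟩
  calc f * w = (f * w * f⁻¹) * f := by group
    _ = w * f := by rw [q.cent hf hw hwQ]

/-- `Q` moves `v_i` to `v_i` or `v_i z_i` -/
theorem act_vi {f : G} (hf : f ∈ o2 (CC (S : Subgroup G))) (i : Fin k) :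
    f * q.vi i * f⁻¹ = q.vi i ∨ f * q.vi i * f⁻¹ = q.vi i * q.za {i} := by
  have hc := q.conj_V (q.Q_P hf) (q.vi_V i)
  have h1 : ∀ j, j ≠ i → q.M.e (f * q.vi i * f⁻¹) j = 0 := fun j hj =>
    (q.coord_iff hf (q.vi_V i) j).2 (q.vi_out hj)
  have h2 : q.M.e (f * q.vi i * f⁻¹) i 1 = 1 := by
    rw [q.row_one hf (q.vi_V i), q.vi_in]; rfl
  rcases q.two (q.M.e (f * q.vi i * f⁻¹) i 0) with h3 | h3
  · left
    apply inj q.M hc (q.vi_V i)
    funext j
    by_cases hj : j = i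
    · subst hj
      rw [q.vi_in]
      exact NatPair.ext2 h3 h2
    · rw [h1 j hj, q.vi_out hj]
  · right
    apply inj q.M hc (mul_mem (q.vi_V i) (q.za_V _))
    rw [q.M.mul _ (q.vi_V i) _ (q.za_V _)]
    funext j
    rw [Pi.add_apply]
    by_cases hj : j = i
    · subst hj
      rw [q.vi_in, q.za_in (Set.mem_singleton j)]
      apply NatPair.ext2
      · rw [h3]; simp
      · rw [h2]; simp
    · rw [h1 j hj, q.vi_out hj, q.za_out (A := {i}) (fun h => hj h), add_zero]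

/-! ### The module `Z_Q` -/

/-- the module -/
def D (_q : QTwo S P F k) : NatQuot.Dat G where
  C := CC (S : Subgroup G)
  W := zc (o2 (CC (S : Subgroup G)))
  Wc := ⊥
  comm a ha b hb := (MinSimple.VModule.mem_zc.1 hb).2.1 a (MinSimple.VModule.mem_zc.1 ha).1
  sq a ha := by rw [← pow_two]; exact (MinSimple.VModule.mem_zc.1 ha).2.2
  normW c hc w hw := (mem_normalizer_iff.1 ((le_normalizer_o2 _).trans
    (MinSimple.VModule.normalizer_le_normalizer_zc _) hc) w).1 hw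
  normWc c _ w hw := by
    rw [mem_bot] at hw ⊢
    rw [hw]; group

theorem p_inj {x y : G} (hx : x ∈ zc (o2 (CC (S : Subgroup G)))) (hy : y ∈ zc (o2 (CC (S : Subgroup G))))
    (h : q.D.p x = q.D.p y) : x = y := by
  have h1 : x * y = 1 := mem_bot.1 ((q.D.p_eq (x := x) (y := y) hx hy).1 h)
  have h2 : y * y = 1 := q.D.sq y hy
  exact mul_right_cancel (h1.trans h2.symm)

theorem za_W (A : Set (Fin k)) : q.za A ∈ q.D.W := q.mem_zq (q.za_V A) (q.za_Q A)

theorem W_Q {x : G} (hx : x ∈ q.D.W) : x ∈ o2 (CC (S : Subgroup G)) := (MinSimple.VModule.mem_zc.1 hx).1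

open Classical in
/-- the functional of `v_i` -/
noncomputable def nf (i : Fin k) (x : G) : ZMod 2 := if x * q.vi i * x⁻¹ = q.vi i then 0 else 1

theorem nf_zero {i : Fin k} {x : G} : q.nf i x = 0 ↔ x * q.vi i * x⁻¹ = q.vi i := by
  unfold nf
  split_ifs with h
  · simp [h]
  · simp [h]

theorem nf_one {i : Fin k} {x : G} (hx : x ∈ q.D.W) : q.nf i x = 1 → x * q.vi i * x⁻¹ = q.vi i * q.za {i} := by
  intro h
  refine (q.act_vi (q.W_Q hx) i).resolve_left fun h1 => ?_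
  rw [q.nf_zero.2 h1] at h
  exact zero_ne_one h

theorem nf_mul {i : Fin k} {x y : G} (hx : x ∈ q.D.W) (hy : y ∈ q.D.W) :
    q.nf i (x * y) = q.nf i x + q.nf i y := by
  have hz : ∀ w ∈ q.D.W, w * q.za {i} * w⁻¹ = q.za {i} := fun w hw =>
    q.cent (q.W_Q hw) (q.za_V _) (q.za_Q _)
  have e : x * y * q.vi i * (x * y)⁻¹ = x * (y * q.vi i * y⁻¹) * x⁻¹ := by group
  have hz1 : q.za {i} ≠ 1 := fun h => by
    have h1 := q.za_ne (Set.mem_singleton i)
    rw [h, e_one] at h1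
    exact h1 rfl
  have hz2 : q.za {i} * q.za {i} = 1 := q.D.sq _ (q.za_W _)
  have h11 : (1 : ZMod 2) + 1 = 0 := by decide
  rcases zmod_or (q.nf i x) with h1 | h1 <;> rcases zmod_or (q.nf i y) with h2 | h2
  · rw [h1, h2, add_zero, nf_zero, e, q.nf_zero.1 h2, q.nf_zero.1 h1]
  · rw [h1, h2, zero_add]
    refine (zmod_or _).resolve_left fun h3 => hz1 ?_
    rw [nf_zero, e, q.nf_one hy h2] at h3
    have e2 : x * (q.vi i * q.za {i}) * x⁻¹ = (x * q.vi i * x⁻¹) * (x * q.za {i} * x⁻¹) := by group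
    rw [e2, q.nf_zero.1 h1, hz x hx] at h3
    exact mul_eq_left.1 h3
  · rw [h1, h2, add_zero]
    refine (zmod_or _).resolve_left fun h3 => hz1 ?_
    rw [nf_zero, e, q.nf_zero.1 h2, q.nf_one hx h1] at h3
    exact mul_eq_left.1 h3
  · rw [h1, h2, h11, nf_zero, e, q.nf_one hy h2]
    have e2 : x * (q.vi i * q.za {i}) * x⁻¹ = (x * q.vi i * x⁻¹) * (x * q.za {i} * x⁻¹) := by group
    rw [e2, q.nf_one hx h1, hz x hx, mul_assoc, hz2, mul_one]

/-- the functional on the module -/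
noncomputable def nu (i : Fin k) : q.D.Q →+ ZMod 2 where
  toFun m := q.nf i (q.D.p_surj m).choose
  map_zero' := by
    have h := (q.D.p_surj (0 : q.D.Q)).choose_spec
    set x := (q.D.p_surj (0 : q.D.Q)).choose with hx
    have h1 : x = 1 := q.p_inj h.1 (one_mem _) (by rw [h.2, q.D.p_one])
    rw [h1, nf_zero]
    group
  map_add' m n := by
    have h1 := (q.D.p_surj m).choose_spec
    have h2 := (q.D.p_surj n).choose_spec
    have h3 := (q.D.p_surj (m + n)).choose_spec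
    rw [← q.nf_mul h1.1 h2.1]
    congr 1
    apply q.p_inj h3.1 (mul_mem h1.1 h2.1)
    rw [h3.2, q.D.p_mul h1.1 h2.1, h1.2, h2.2]

theorem nu_p {i : Fin k} {x : G} (hx : x ∈ q.D.W) : q.nu i (q.D.p x) = q.nf i x := by
  have h1 := (q.D.p_surj (q.D.p x)).choose_spec
  have h2 : (q.D.p_surj (q.D.p x)).choose = x := q.p_inj h1.1 hx h1.2
  change q.nf i (q.D.p_surj (q.D.p x)).choose = _
  rw [h2]

/-- `v_i` in `C` -/
noncomputable def vc (i : Fin k) : q.D.C := ⟨q.vi i, q.vi_C i⟩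

theorem vi_mul (i : Fin k) : q.vi i * q.vi i = 1 := by
  rw [← pow_two]; exact q.A.sq _ (q.vi_V i)

theorem tv (i : Fin k) : WR.Comp.TV (q.vc i) (q.nu i) (q.D.p (q.za {i})) := by
  intro m
  obtain ⟨x, hx, rfl⟩ := q.D.p_surj m
  have hvi : (q.vi i)⁻¹ = q.vi i := inv_eq_of_mul_eq_one_left (q.vi_mul i)
  rw [q.nu_p hx, q.D.p_act _ hx]
  change (q.nf i x = 0 → q.D.p (q.vi i * x * (q.vi i)⁻¹) = q.D.p x) ∧
    (q.nf i x = 1 → q.D.p (q.vi i * x * (q.vi i)⁻¹) = q.D.p x + q.D.p (q.za {i}))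
  constructor
  · intro h
    rw [nf_zero] at h
    congr 1
    have h1 : x * q.vi i = q.vi i * x := by
      calc x * q.vi i = (x * q.vi i * x⁻¹) * x := by group
        _ = q.vi i * x := by rw [h]
    rw [← h1]; group
  · intro h
    have h1 := q.nf_one hx h
    rw [← q.D.p_mul hx (q.za_W _)]
    congr 1
    have h2 : x * q.vi i = q.vi i * q.za {i} * x := by
      calc x * q.vi i = (x * q.vi i * x⁻¹) * x := by group
        _ = q.vi i * q.za {i} * x := by rw [h1]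
    have h3 : q.za {i} * x = x * q.za {i} := q.D.comm _ (q.za_W _) x hx
    calc q.vi i * x * (q.vi i)⁻¹ = q.vi i * (x * q.vi i) := by rw [hvi]; group
      _ = q.vi i * (q.vi i * q.za {i} * x) := by rw [h2]
      _ = (q.vi i * q.vi i) * (q.za {i} * x) := by group
      _ = x * q.za {i} := by rw [q.vi_mul, one_mul, h3]

theorem cen (i j : Fin k) : q.nu i (q.D.p (q.za {j})) = 0 := by
  rw [q.nu_p (q.za_W _), nf_zero, q.A.comm _ (q.za_V _) _ (q.vi_V i)]
  group

/-- the sum of the `z_i` -/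
theorem sum_za (s : Finset (Fin k)) : ∑ i ∈ s, q.D.p (q.za {i}) = q.D.p (q.za (s : Set (Fin k))) := by
  classical
  induction s using Finset.induction_on with
  | empty =>
    rw [Finset.sum_empty]
    have h : q.za ((∅ : Finset (Fin k)) : Set (Fin k)) = 1 :=
      eq_one q.M (q.za_V _) (funext fun i => q.za_out (by simp))
    rw [h, q.D.p_one]
  | insert a s has ih =>
    rw [Finset.sum_insert has, ih, ← q.D.p_mul (q.za_W _) (q.za_W _)]
    congr 1
    apply inj q.M (mul_mem (q.za_V _) (q.za_V _)) (q.za_V _)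
    rw [q.M.mul _ (q.za_V _) _ (q.za_V _)]
    funext i
    rw [Pi.add_apply]
    by_cases hi : i = a
    · subst hi
      rw [q.za_in (Set.mem_singleton i), q.za_out (A := (s : Set (Fin k))) (by simpa using has),
        q.za_in (A := ((insert i s : Finset (Fin k)) : Set (Fin k))) (by simp), add_zero]
    · rw [q.za_out (A := {a}) (fun h => hi h), zero_add]
      by_cases his : i ∈ s
      · rw [q.za_in (A := (s : Set (Fin k))) (by simpa using his),
          q.za_in (A := ((insert a s : Finset (Fin k)) : Set (Fin k))) (by simp [his])]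
      · rw [q.za_out (A := (s : Set (Fin k))) (by simpa using his),
          q.za_out (A := ((insert a s : Finset (Fin k)) : Set (Fin k))) (by simp [his, hi])]

/-- an element of `V ∩ Q` is `z A`, `A` its support -/
theorem eq_za {w : G} (hw : w ∈ zl (S : Subgroup G) P) (hwQ : w ∈ o2 (CC (S : Subgroup G))) {A : Set (Fin k)}
    (hA : ∀ i, q.M.e w i = 0 ↔ i ∉ A) : w = q.za A := by
  apply inj q.M hw (q.za_V A)
  funext i
  by_cases hi : i ∈ A
  · have h1 : q.M.e w i 1 = 0 := (q.hE w hw).1 hwQ i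
    have h2 : q.M.e w i ≠ 0 := fun h => (hA i).1 h hi
    rw [q.za_in hi]
    apply NatPair.ext2
    · refine (q.two _).resolve_left fun h3 => h2 (NatPair.ext2 h3 h1)
    · rw [h1]; rfl
  · rw [(hA i).2 hi, q.za_out hi]

/-- the elements of `S` permute the `z A` -/
theorem conj_za {t : G} (ht : t ∈ (S : Subgroup G)) {σ : Equiv.Perm (Fin k)} (hσ : Mv q.M t σ)
    (A : Set (Fin k)) : t * q.za A * t⁻¹ = q.za (σ '' A) := by
  have htC : t ∈ CC (S : Subgroup G) := Cfg.S_le_CC S ht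
  apply q.eq_za (q.conj_V (q.cfg.S_le ht) (q.za_V A))
    ((mem_normalizer_iff.1 (le_normalizer_o2 _ htC) _).1 (q.za_Q A))
  intro i
  obtain ⟨j, rfl⟩ := σ.surjective i
  rw [hσ _ (q.za_V A) j, Function.Injective.mem_set_image σ.injective]
  constructor
  · intro h hj
    exact q.za_ne hj h
  · intro h
    exact q.za_out h

theorem za_univ : q.za Set.univ ∈ zc (S : Subgroup G) := by
  refine MinSimple.VModule.mem_zc.2 ⟨q.A.VT (q.za_V _), fun t ht => ?_, q.A.sq _ (q.za_V _)⟩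
  obtain ⟨σ, hσ⟩ := exists_mv (M := q.M) q.A ht
  have h := q.conj_za ht hσ Set.univ
  rw [Set.image_univ_of_surjective σ.surjective] at h
  calc t * q.za Set.univ = (t * q.za Set.univ * t⁻¹) * t := by group
    _ = q.za Set.univ * t := by rw [h]

theorem conj_univ {c : G} (hc : c ∈ CC (S : Subgroup G)) : c * q.za Set.univ * c⁻¹ = q.za Set.univ := by
  have h := mem_centralizer_iff.1 hc _ q.za_univ
  rw [← h]; group

theorem za_compl (A : Set (Fin k)) : q.za A * q.za Aᶜ = q.za Set.univ := by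
  apply inj q.M (mul_mem (q.za_V _) (q.za_V _)) (q.za_V _)
  rw [q.M.mul _ (q.za_V _) _ (q.za_V _)]
  funext i
  rw [Pi.add_apply, q.za_in (Set.mem_univ i)]
  by_cases hi : i ∈ A
  · rw [q.za_in hi, q.za_out (fun h : i ∈ Aᶜ => h hi), add_zero]
  · rw [q.za_out hi, q.za_in (show i ∈ Aᶜ from hi), zero_add]

theorem full {A : Set (Fin k)} : ∀ i ∈ A, q.M.e (q.za A) i ≠ 0 := fun _ hi => q.za_ne hi

/-- some conjugate of `z_j` is moved by `v_i` -/
theorem hit {B : Set (Fin k)} (hB : Blk q.M B) (i j : Fin k) :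
    ∃ r ∈ WR.Comp.PP q.D.C (q.D.p (q.za {j})), q.nu i r = 1 := by
  by_contra hcon
  push Not at hcon
  -- `v_i` centralises all conjugates of `z_j`
  have h1 : ∀ c ∈ CC (S : Subgroup G), c * q.za {j} * c⁻¹ * q.vi i = q.vi i * (c * q.za {j} * c⁻¹) := by
    intro c hc
    have hW : c * q.za {j} * c⁻¹ ∈ q.D.W := q.D.normW c hc _ (q.za_W _)
    have h2 : q.nu i (q.D.p (c * q.za {j} * c⁻¹)) ≠ 1 := by
      apply hcon
      exact ⟨⟨c, hc⟩, q.D.p_act _ (q.za_W _)⟩
    rw [q.nu_p hW] at h2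
    have h3 := q.nf_zero.1 ((zmod_or _).resolve_right h2)
    set y := c * q.za {j} * c⁻¹ with hy
    calc y * q.vi i = (y * q.vi i * y⁻¹) * y := by group
      _ = q.vi i * y := by rw [h3]
  let X : Set G := {x | ∃ c ∈ CC (S : Subgroup G), x = c * q.za {j} * c⁻¹}
  let N : Subgroup G := CC (S : Subgroup G) ⊓ centralizer X
  have hnor : CC (S : Subgroup G) ≤ normalizer (N : Set G) := by
    have key : ∀ c ∈ CC (S : Subgroup G), ∀ n ∈ N, c * n * c⁻¹ ∈ N := by
      rintro c hc n ⟨hn, hn'⟩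
      refine ⟨Subgroup.mul_mem _ (Subgroup.mul_mem _ hc hn) (Subgroup.inv_mem _ hc), mem_centralizer_iff.2 ?_⟩
      rintro x ⟨d, hd, rfl⟩
      have h2 := mem_centralizer_iff.1 hn' (c⁻¹ * d * q.za {j} * (c⁻¹ * d)⁻¹) ⟨c⁻¹ * d,
        mul_mem (inv_mem hc) hd, rfl⟩
      calc d * q.za {j} * d⁻¹ * (c * n * c⁻¹) = c * (c⁻¹ * d * q.za {j} * (c⁻¹ * d)⁻¹ * n) * c⁻¹ := by group
        _ = c * (n * (c⁻¹ * d * q.za {j} * (c⁻¹ * d)⁻¹)) * c⁻¹ := by rw [h2]
        _ = c * n * c⁻¹ * (d * q.za {j} * d⁻¹) := by group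
    intro c hc
    rw [mem_normalizer_iff]
    intro n
    refine ⟨fun h => key c hc n h, fun h => ?_⟩
    have h2 := key c⁻¹ (inv_mem hc) _ h
    have e : c⁻¹ * (c * n * c⁻¹) * c⁻¹⁻¹ = n := by group
    rwa [e] at h2
  -- `N` centralises all `z A`
  have hX : ∀ l, q.za {l} ∈ X := by
    intro l
    obtain ⟨t, ht, h5⟩ := q.M.trans j l
    obtain ⟨σ, hσ⟩ := exists_mv (M := q.M) q.A ht
    have h6 := hσ.unique q.M q.A (q.A.TH ht) h5
    refine ⟨t, Cfg.S_le_CC S ht, ?_⟩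
    rw [q.conj_za ht hσ, Set.image_singleton, h6]
  have hcent : ∀ s : Finset (Fin k), ∀ n ∈ N, n * q.za (s : Set (Fin k)) = q.za (s : Set (Fin k)) * n := by
    classical
    intro s n hn
    have hnC : n ∈ q.D.C := hn.1
    have h2 : (⟨n, hnC⟩ : q.D.C) • q.D.p (q.za (s : Set (Fin k))) = q.D.p (q.za (s : Set (Fin k))) := by
      rw [← q.sum_za, Finset.smul_sum]
      refine Finset.sum_congr rfl fun l _ => ?_
      rw [q.D.p_act _ (q.za_W _)]
      congr 1
      have h3 := mem_centralizer_iff.1 hn.2 _ (hX l)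
      change n * q.za {l} * n⁻¹ = q.za {l}
      rw [← h3]; group
    rw [q.D.p_act _ (q.za_W _)] at h2
    have h3 := q.p_inj (q.D.normW n hnC _ (q.za_W _)) (q.za_W _) h2
    calc n * q.za (s : Set (Fin k)) = (n * q.za (s : Set (Fin k)) * n⁻¹) * n := by group
      _ = q.za (s : Set (Fin k)) * n := by rw [h3]
  have hcentA : ∀ A : Set (Fin k), N ≤ centralizer ({q.za A} : Set G) := by
    intro A n hn
    have h2 := hcent A.toFinite.toFinset n hn
    rw [Set.Finite.coe_toFinset] at h2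
    exact mem_centralizer_singleton_iff.2 h2
  have hfin := bprime q.cfg hB (q.za_mem B) q.full (q.za_mem Bᶜ) q.full (N := N) inf_le_left hnor
    (hcentA B) (hcentA Bᶜ)
  apply q.vi_not i
  apply hfin
  refine ⟨q.vi_V i, q.vi_C i, mem_centralizer_iff.2 ?_⟩
  rintro x ⟨c, hc, rfl⟩
  exact h1 c hc

open Classical in
/-- **(N5)** for the halving `B` -/
theorem half_data {B : Set (Fin k)} (hB : Blk q.M B) (j : Fin k) :
    WR.Comp.Half q.D.C (q.D.p (q.za {j})) (fun i => q.D.p (q.za {i})) q.vc q.nu B.toFinite.toFinset where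
  two := q.D.p_add_self
  ne := by
    intro h
    have h1 : q.za {j} = 1 := mem_bot.1 ((q.D.p_ker (q.za_W _)).1 h)
    have h2 := q.za_ne (Set.mem_singleton j)
    rw [h1, e_one] at h2
    exact h2 rfl
  mem i := by
    obtain ⟨t, ht, h5⟩ := q.M.trans j i
    obtain ⟨σ, hσ⟩ := exists_mv (M := q.M) q.A ht
    have h6 := hσ.unique q.M q.A (q.A.TH ht) h5
    refine ⟨⟨t, Cfg.S_le_CC S ht⟩, ?_⟩
    rw [q.D.p_act _ (q.za_W _)]
    change q.D.p (t * q.za {j} * t⁻¹) = _
    rw [q.conj_za ht hσ, Set.image_singleton, h6]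
  tv := q.tv
  cen := q.cen
  hit i := q.hit hB i j
  fix c := by
    have h := q.sum_za Finset.univ
    rw [Finset.coe_univ] at h
    rw [h, q.D.p_act _ (q.za_W _)]
    congr 1
    exact q.conj_univ c.2
  kl i c hc := by
    have h := q.sum_za B.toFinite.toFinset
    rw [Set.Finite.coe_toFinset] at h
    rw [h, q.D.p_act _ (q.za_W _)] at hc
    have h1 : (c : G) * q.za B * (c : G)⁻¹ = q.za B := q.p_inj (q.D.normW c c.2 _ (q.za_W _)) (q.za_W _) hc
    have h2 : (c : G) * q.za Bᶜ * (c : G)⁻¹ = q.za Bᶜ := by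
      have h3 := q.conj_univ c.2
      rw [← q.za_compl B] at h3
      have e : (c : G) * (q.za B * q.za Bᶜ) * (c : G)⁻¹ =
        ((c : G) * q.za B * (c : G)⁻¹) * ((c : G) * q.za Bᶜ * (c : G)⁻¹) := by group
      rw [e, h1] at h3
      exact mul_left_cancel h3
    set X : Subgroup G := centralizer ({q.za B} : Set G) ⊓ centralizer ({q.za Bᶜ} : Set G) with hX
    have hcX : (c : G) ∈ X := by
      refine ⟨mem_centralizer_singleton_iff.2 ?_, mem_centralizer_singleton_iff.2 ?_⟩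
      · calc (c : G) * q.za B = ((c : G) * q.za B * (c : G)⁻¹) * c := by group
          _ = q.za B * c := by rw [h1]
      · calc (c : G) * q.za Bᶜ = ((c : G) * q.za Bᶜ * (c : G)⁻¹) * c := by group
          _ = q.za Bᶜ * c := by rw [h2]
    have hvX : q.vi i ∈ X := ⟨mem_centralizer_singleton_iff.2 (q.A.comm _ (q.vi_V i) _ (q.za_V _)),
      mem_centralizer_singleton_iff.2 (q.A.comm _ (q.vi_V i) _ (q.za_V _))⟩
    have hv : q.vi i ∈ o2 X := full_full q.cfg hB (q.za_mem B) q.full (q.za_mem Bᶜ) q.full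
      inf_le_left inf_le_right ⟨q.vi_V i, hvX⟩
    have hv' : (c : G) * q.vi i * (c : G)⁻¹ ∈ o2 X :=
      (mem_normalizer_iff.1 (le_normalizer_o2 X hcX) _).1 hv
    obtain ⟨m, hm⟩ := isPGroup_o2 X ⟨_, mul_mem hv hv'⟩
    refine ⟨m, Subtype.ext ?_⟩
    have h3 := congrArg Subtype.val hm
    rw [SubmonoidClass.coe_pow] at h3
    rw [SubmonoidClass.coe_pow]
    exact h3

/-! ### The end -/

/-- the component of `z_i` -/
def cmp (i : Fin k) : Set (Fin k) :=
  {l | WR.Comp.Conn q.D.C (q.D.p (q.za {i})) (q.D.p (q.za {i})) (q.D.p (q.za {l}))}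

theorem p_za_ne (j : Fin k) : q.D.p (q.za {j}) ≠ 0 := by
  intro h
  have h1 : q.za {j} = 1 := mem_bot.1 ((q.D.p_ker (q.za_W _)).1 h)
  have h2 := q.za_ne (Set.mem_singleton j)
  rw [h1, e_one] at h2
  exact h2 rfl

theorem cmp_block (i : Fin k) {t : G} (ht : t ∈ (S : Subgroup G)) {σ : Equiv.Perm (Fin k)} (hσ : Mv q.M t σ)
    (hne : (σ '' q.cmp i ∩ q.cmp i).Nonempty) : σ '' q.cmp i = q.cmp i := by
  set z0 := q.D.p (q.za {i}) with hz0
  have key : ∀ {t : G} (ht : t ∈ (S : Subgroup G)) {σ : Equiv.Perm (Fin k)} (hσ : Mv q.M t σ) (a b : Fin k),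
      WR.Comp.Conn q.D.C z0 (q.D.p (q.za {a})) (q.D.p (q.za {b})) →
      WR.Comp.Conn q.D.C z0 (q.D.p (q.za {σ a})) (q.D.p (q.za {σ b})) := by
    intro t ht σ hσ a b hab
    have h1 := hab.smul (⟨t, Cfg.S_le_CC S ht⟩ : q.D.C)
    have h2 : ∀ l, (⟨t, Cfg.S_le_CC S ht⟩ : q.D.C) • q.D.p (q.za {l}) = q.D.p (q.za {σ l}) := by
      intro l
      rw [q.D.p_act _ (q.za_W _)]
      change q.D.p (t * q.za {l} * t⁻¹) = _
      rw [q.conj_za ht hσ, Set.image_singleton]
    rwa [h2, h2] at h1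
  have hsymm : ∀ {a b : q.D.Q}, WR.Comp.Conn q.D.C z0 a b → WR.Comp.Conn q.D.C z0 b a := fun h =>
    h.symm q.D.p_add_self (q.p_za_ne i)
  obtain ⟨_, ⟨l, hl, rfl⟩, hl'⟩ := hne
  -- `z_i ~ z_{σ i}`
  have h1 : WR.Comp.Conn q.D.C z0 z0 (q.D.p (q.za {σ i})) := by
    have h2 := key ht hσ i l hl
    exact Relation.ReflTransGen.trans hl' (hsymm h2)
  ext m
  constructor
  · rintro ⟨n, hn, rfl⟩
    exact Relation.ReflTransGen.trans h1 (key ht hσ i n hn)
  · intro hm
    refine ⟨σ.symm m, ?_, σ.apply_symm_apply m⟩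
    have h3 : WR.Comp.Conn q.D.C z0 (q.D.p (q.za {σ i})) (q.D.p (q.za {m})) :=
      Relation.ReflTransGen.trans (hsymm h1) hm
    have h4 := key (inv_mem ht) (hσ.inv q.M q.A (q.A.TH ht)) (σ i) m h3
    rwa [σ.symm_apply_apply] at h4

theorem false_of (hk : 3 ≤ k) : False := by
  classical
  have hA := q.A
  let i : Fin k := ⟨0, by omega⟩
  have hi : i ∈ q.cmp i := Relation.ReflTransGen.refl
  by_cases hu : q.cmp i = Set.univ
  · -- all in one component
    obtain ⟨B, hB, hiB⟩ := exists_blk S q.M hA (by omega) i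
    obtain ⟨h1, h2⟩ := (q.half_data hB i).odd_card i
    have hall : ∀ l, WR.Comp.Conn q.D.C (q.D.p (q.za {i})) (q.D.p (q.za {i})) (q.D.p (q.za {l})) := by
      intro l
      have : l ∈ q.cmp i := by rw [hu]; exact Set.mem_univ l
      exact this
    rw [Finset.filter_true_of_mem (fun l _ => hall l)] at h1 h2
    -- the two halves have the same size
    obtain ⟨s, hs, hsn⟩ := exists_swap hA hB
    obtain ⟨σ, hσ⟩ := exists_mv (M := q.M) hA hs
    have h3 : σ '' B = Bᶜ := (hB.blk s hs σ hσ).resolve_left fun h => hsn ((mem_So hA hB hs hσ).2 h)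
    have h4 : (Finset.univ \ B.toFinite.toFinset).card = B.toFinite.toFinset.card := by
      have h5 : (Finset.univ \ B.toFinite.toFinset : Finset (Fin k)) = B.toFinite.toFinset.map σ.toEmbedding := by
        apply Finset.coe_injective
        rw [Finset.coe_map, Finset.coe_sdiff, Finset.coe_univ, Set.Finite.coe_toFinset]
        change Set.univ \ B = σ '' B
        rw [h3, Set.compl_eq_univ_sdiff]
      rw [h5, Finset.card_map]
    have h5 : (Finset.univ \ B.toFinite.toFinset : Finset (Fin k)).card + B.toFinite.toFinset.card = k := by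
      rw [Finset.card_sdiff_add_card_eq_card (Finset.subset_univ _), Finset.card_univ, Fintype.card_fin]
    -- `k` is a power of two
    have h6 : k ∣ Nat.card (S : Subgroup G) := ⟨_, IId.card_stab q.M q.cfg.S_le i⟩
    have : Fact (Nat.Prime 2) := ⟨Nat.prime_two⟩
    obtain ⟨n, hn⟩ := IsPGroup.iff_card.1 S.isPGroup'
    rw [hn, Nat.dvd_prime_pow Nat.prime_two] at h6
    obtain ⟨a, -, ha⟩ := h6
    obtain ⟨c, hc⟩ := h1
    rw [h4, hc, ha] at h5
    rcases a with _ | _ | a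
    · omega
    · omega
    · have : 2 ^ (a + 1 + 1) = 4 * 2 ^ a := by ring
      omega
  · obtain ⟨B, hB, hiB⟩ := exists_blk_of q.M hA S.isPGroup' hi hu fun t ht σ hσ hne => q.cmp_block i ht hσ hne
    obtain ⟨-, h2⟩ := (q.half_data hB i).odd_card i
    rw [Finset.filter_false_of_mem] at h2
    · simp at h2
    · intro l hl hc
      have h3 := (@Finset.mem_sdiff (Fin k) (fun a b => Classical.propDecidable (a = b)) _ _ _).1 hl
      exact h3.2 ((Set.Finite.mem_toFinset _).2 (hiB hc))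

end QTwo

/-- **(Q), `q = 2`, `k ≥ 3` is impossible.** -/
theorem main_two (h : Cfg S P) (M : NatK F (S : Subgroup G) P (zl (S : Subgroup G) P) ⊥ k) (hk : 3 ≤ k)
    (hF : Nat.card F = 2)
    (hE : ∀ v ∈ zl (S : Subgroup G) P, v ∈ o2 (CC (S : Subgroup G)) ↔ ∀ i, M.e v i 1 = 0) : False := by
  have h2 : ∀ x : F, x = 0 ∨ x = 1 := by
    have : Finite F := Nat.finite_of_card_ne_zero (by omega)
    have : Fintype F := Fintype.ofFinite F
    classical
    intro x
    by_contra hcon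
    push Not at hcon
    have h3 : ({0, 1, x} : Finset F).card = 3 := by
      rw [Finset.card_eq_three]
      exact ⟨0, 1, x, zero_ne_one, hcon.1.symm, hcon.2.symm, rfl⟩
    have h4 := Finset.card_le_univ ({0, 1, x} : Finset F)
    rw [h3, ← Nat.card_eq_fintype_card, hF] at h4
    omega
  exact (⟨h, M, h2, hE⟩ : QTwo S P F k).false_of hk

end Cfsg.Agent.Omega.NO1.NatWr
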