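import Cfsg.Agent.Omega.NO1.Cfg
import Cfsg.Agent.Omega.Half.AppNat

/-!
# N1, `V = V_P` a sum of `k ≥ 2` natural `SL₂(F)`-modules: the interface (text #15037, helper675)

`h : Cfg S P`, `M : NatK F S P V ⊥ k`, `V = zl S P`, `C = CC S = C_G(Z)`, `Q = O₂(C)`, `Z_Q = Ω₁(Z(Q)) = zc Q`.
From `Half/AppNat` (`NatA`): `fac M B` = elements of `V` with support in `B`, `Mv M g σ` : `g` moves the summands
by `σ`, `Blk M B` : `B, Bᶜ` are the two orbits of a subgroup `So M B` of index 2 in `S`.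

* `half` (KL), `full_full` (KL+), `bprime` (b');
* `exists_z` : `z₁ ∈ fac M B`, `z₂ = z₁ ^ s ∈ fac M Bᶜ`, `z₁ z₂ ∈ Z`, both of full support;
* `Case1 M` : `Q ≤ So M B` for all `B`; `Case1.z_mem` (`z₁, z₂ ∈ Z_Q`), `comm_V_ZQ` (`[V, Z_Q] ≤ V ⊓ Z_Q`).
-/

set_option autoImplicit false
set_option linter.unusedSectionVars false

namespace Cfsg.Agent.Omega.NO1.NatWr

open Subgroup Cfsg Cfsg.Agent.ZN Cfsg.Agent.Omega.MinPar Cfsg.Agent.Omega.FFThm
open Cfsg.Agent.Omega.Half Cfsg.Agent.Omega.Half.NatA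
open Cfsg.Agent.Omega.NoFF.LinesPlug (CC)

universe u

variable {G : Type u} [Group G]

/-! ### Generalities -/

theorem o2_inf_le [Finite G] {X Y : Subgroup G} (h : X ≤ Y) : o2 Y ⊓ X ≤ o2 X := by
  refine le_o2 inf_le_right ((isPGroup_o2 Y).to_le inf_le_left) ?_
  intro x hx
  rw [mem_normalizer_iff]
  intro y
  have h1 := mem_normalizer_iff.1 (le_normalizer_o2 Y (h hx)) y
  constructor
  · rintro ⟨h2, h3⟩
    exact ⟨h1.1 h2, X.mul_mem (X.mul_mem hx h3) (X.inv_mem hx)⟩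
  · rintro ⟨h2, h3⟩
    refine ⟨h1.2 h2, ?_⟩
    have h4 : x⁻¹ * (x * y * x⁻¹) * x ∈ X := mul_mem (mul_mem (inv_mem hx) h3) hx
    have e : x⁻¹ * (x * y * x⁻¹) * x = y := by group
    rwa [e] at h4

variable {F : Type} [Field F] {k : ℕ}

section KL

variable [Finite G] {S : Sylow 2 G} {P : Subgroup G}

theorem amb (h : Cfg S P) : Amb (S : Subgroup G) P (zl (S : Subgroup G) P) :=
  amb_of_loc h.ctx.char2 S h.loc

variable {M : NatK F (S : Subgroup G) P (zl (S : Subgroup G) P) ⊥ k} {B : Set (Fin k)}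

/-- **(KL)**: if `u` has full support in the half `B` then, for `X ≤ C_G(u)`, the elements of `X` with support
in the other half lie in `O₂(X)`. -/
theorem half (h : Cfg S P) (hB : Blk M B) {u : G} (hu : u ∈ fac M B) (hfull : ∀ i ∈ B, M.e u i ≠ 0)
    {X : Subgroup G} (hX : X ≤ centralizer ({u} : Set G)) : fac M Bᶜ ⊓ X ≤ o2 X :=
  (inf_le_inf_right X (app_nat h.ctx.char2 S (amb h) hB hu hfull).1).trans (o2_inf_le hX)

/-- **(KL+)**: `x`, `y` of full support in the two halves; then `V ∩ X ≤ O₂(X)` for all `X ≤ C_G(⟨x,y⟩)`. -/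
theorem full_full (h : Cfg S P) (hB : Blk M B) {x y : G} (hx : x ∈ fac M B) (hxf : ∀ i ∈ B, M.e x i ≠ 0)
    (hy : y ∈ fac M Bᶜ) (hyf : ∀ i ∈ Bᶜ, M.e y i ≠ 0) {X : Subgroup G}
    (hX : X ≤ centralizer ({x} : Set G)) (hX' : X ≤ centralizer ({y} : Set G)) :
    zl (S : Subgroup G) P ⊓ X ≤ o2 X := by
  set Y : Subgroup G := centralizer ({x} : Set G) ⊓ centralizer ({y} : Set G) with hY
  have hVx : ∀ w ∈ fac M B ⊔ fac M Bᶜ, w ∈ Y := by
    intro w hw
    have hwV : w ∈ zl (S : Subgroup G) P := (sup_le (fac_le M _) (fac_le M _)) hw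
    exact ⟨mem_centralizer_singleton_iff.2 ((amb h).comm w hwV x hx.1),
      mem_centralizer_singleton_iff.2 ((amb h).comm w hwV y hy.1)⟩
  have h1 : fac M Bᶜ ≤ o2 Y := fun w hw =>
    half h hB hx hxf inf_le_left ⟨hw, hVx w (mem_sup_right hw)⟩
  have h2 : fac M B ≤ o2 Y := by
    have h3 := half h hB.compl hy hyf (X := Y) inf_le_right
    rw [compl_compl] at h3
    exact fun w hw => h3 ⟨hw, hVx w (mem_sup_left hw)⟩
  have h3 : zl (S : Subgroup G) P ≤ o2 Y := by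
    intro v hv
    obtain ⟨a, ha, haB⟩ := exists_fac M B (M.e v)
    have hb : a⁻¹ * v ∈ fac M Bᶜ := by
      refine ⟨mul_mem (inv_mem ha.1) hv, fun i hi => ?_⟩
      rw [M.mul _ (inv_mem ha.1) v hv, e_inv M ha.1, Pi.add_apply, Pi.neg_apply,
        haB i (by simpa using hi), neg_add_cancel]
    have e : v = a * (a⁻¹ * v) := by group
    rw [e]
    exact mul_mem (h2 ha) (h1 hb)
  exact (inf_le_inf_right X h3).trans (o2_inf_le (le_inf hX hX'))

/-- **(b')** -/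
theorem bprime (h : Cfg S P) (hB : Blk M B) {x y : G} (hx : x ∈ fac M B) (hxf : ∀ i ∈ B, M.e x i ≠ 0)
    (hy : y ∈ fac M Bᶜ) (hyf : ∀ i ∈ Bᶜ, M.e y i ≠ 0) {N : Subgroup G} (hN : N ≤ CC (S : Subgroup G))
    (hn : CC (S : Subgroup G) ≤ normalizer (N : Set G)) (hNx : N ≤ centralizer ({x} : Set G))
    (hNy : N ≤ centralizer ({y} : Set G)) : zl (S : Subgroup G) P ⊓ N ≤ o2 (CC (S : Subgroup G)) := by
  refine (full_full h hB hx hxf hy hyf hNx hNy).trans ?_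
  exact le_o2 ((o2_le N).trans hN) (isPGroup_o2 N) (hn.trans (normalizer_le_normalizer_o2 N))

/-- **The elements `z₁`, `z₂`.** -/
theorem exists_z (h : Cfg S P) (hB : Blk M B) : ∃ z ∈ fac M B, ∃ s ∈ (S : Subgroup G),
    z ≠ 1 ∧ (∀ t ∈ So M B, t * z * t⁻¹ = z) ∧ (∀ i ∈ B, M.e z i ≠ 0) ∧
      s * z * s⁻¹ ∈ fac M Bᶜ ∧ (∀ t ∈ So M B, t * (s * z * s⁻¹) * t⁻¹ = s * z * s⁻¹) ∧
      (∀ i ∈ Bᶜ, M.e (s * z * s⁻¹) i ≠ 0) ∧ z * (s * z * s⁻¹) ∈ zc (S : Subgroup G) := by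
  have hA := amb h
  have hS2 : IsPGroup 2 (S : Subgroup G) := S.isPGroup'
  obtain ⟨i₀, hi₀⟩ := hB.ne
  obtain ⟨z, hz, hz1, hc⟩ := exists_fixed ((hS2.to_le hA.VT).to_le (fac_le M B)) (fac_ne_bot hi₀)
    (hS2.to_le (inf_le_left : So M B ≤ _)) (inf_le_right : So M B ≤ normalizer (fac M B : Set G))
  obtain ⟨s, hs, hsn⟩ := exists_swap hA hB
  obtain ⟨σ, hσ⟩ := exists_mv (M := M) hA hs
  have h1 : σ '' B = Bᶜ := (hB.blk s hs σ hσ).resolve_left fun h2 => hsn ((mem_So hA hB hs hσ).2 h2)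
  have hf : ∀ i ∈ B, M.e z i ≠ 0 := fun i hi => NatA.full hA hB hz hz1 hc hi
  have hsz : s * z * s⁻¹ ∈ fac M Bᶜ := by
    have h2 := hσ.conj M hA (hA.TH hs) hz
    rwa [h1] at h2
  -- `So` is normalised by `s`
  have hidx : ∀ a ∈ (S : Subgroup G), a ∉ So M B → ∀ b ∈ (S : Subgroup G), b ∉ So M B → a * b ∈ So M B := by
    intro a ha hna b hb hnb
    obtain ⟨α, hα⟩ := exists_mv (M := M) hA ha
    obtain ⟨β, hβ⟩ := exists_mv (M := M) hA hb
    have h3 : Mv M (a * b) (α * β) := by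
      intro v hv i
      have e1 : a * b * v * (a * b)⁻¹ = a * (b * v * b⁻¹) * a⁻¹ := by group
      rw [e1, Equiv.Perm.mul_apply, hα _ (hA.conj_mem (hA.TH hb) hv), hβ v hv]
    rw [mem_So hA hB ha hα] at hna
    rw [mem_So hA hB hb hβ] at hnb
    rw [mem_So hA hB (mul_mem ha hb) h3]
    have h4 := (hB.blk a ha α hα).resolve_left hna
    have h5 := (hB.blk b hb β hβ).resolve_left hnb
    rw [Equiv.Perm.coe_mul, Set.image_comp, h5, image_compl, h4, compl_compl]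
  have hnor : ∀ t ∈ So M B, s⁻¹ * t * s ∈ So M B := by
    intro t ht
    have h3 : t * s ∉ So M B := fun h4 => hsn (by
      have := mul_mem (inv_mem ht) h4
      rwa [inv_mul_cancel_left] at this)
    have h4 : s⁻¹ ∉ So M B := fun h5 => hsn (by simpa using inv_mem h5)
    have h5 := hidx s⁻¹ (inv_mem hs) h4 (t * s) (mul_mem ht.1 hs) h3
    rwa [← mul_assoc] at h5
  have hsf : ∀ t ∈ So M B, t * (s * z * s⁻¹) * t⁻¹ = s * z * s⁻¹ := by
    intro t ht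
    have h3 := hc _ (hnor t ht)
    calc t * (s * z * s⁻¹) * t⁻¹ = s * ((s⁻¹ * t * s) * z * (s⁻¹ * t * s)⁻¹) * s⁻¹ := by group
      _ = s * z * s⁻¹ := by rw [h3]
  refine ⟨z, hz, s, hs, hz1, hc, hf, hsz, hsf, fun i hi => ?_, ?_⟩
  · rw [← h1] at hi
    obtain ⟨j, hj, rfl⟩ := hi
    rw [Ne, hσ z hz.1 j]
    exact hf j hj
  · -- the product is fixed by `S`
    have hss : s * s ∈ So M B := hidx s hs hsn s hs hsn
    have h2 : s * (s * z * s⁻¹) * s⁻¹ = z := by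
      have h3 := hc _ hss
      calc s * (s * z * s⁻¹) * s⁻¹ = (s * s) * z * (s * s)⁻¹ := by group
        _ = z := h3
    have hcom : z * (s * z * s⁻¹) = s * z * s⁻¹ * z := hA.comm _ hz.1 _ hsz.1
    have h3 : ∀ t ∈ (S : Subgroup G), t * (z * (s * z * s⁻¹)) * t⁻¹ = z * (s * z * s⁻¹) := by
      intro t ht
      by_cases htS : t ∈ So M B
      · calc t * (z * (s * z * s⁻¹)) * t⁻¹ = (t * z * t⁻¹) * (t * (s * z * s⁻¹) * t⁻¹) := by group
          _ = z * (s * z * s⁻¹) := by rw [hc t htS, hsf t htS]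
      · have h4 : t * s⁻¹ ∈ So M B :=
          hidx t ht htS s⁻¹ (inv_mem hs) fun h5 => hsn (by simpa using inv_mem h5)
        have h5 : t = (t * s⁻¹) * s := by group
        set r := t * s⁻¹ with hr
        rw [h5]
        calc r * s * (z * (s * z * s⁻¹)) * (r * s)⁻¹
            = (r * (s * z * s⁻¹) * r⁻¹) * (r * (s * (s * z * s⁻¹) * s⁻¹) * r⁻¹) := by group
          _ = (s * z * s⁻¹) * z := by rw [h2, hc r h4, hsf r h4]
          _ = z * (s * z * s⁻¹) := hcom.symm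
    refine MinSimple.VModule.mem_zc.2 ⟨mul_mem (hA.VT hz.1) (hA.VT hsz.1), fun b hb => ?_, ?_⟩
    · calc b * (z * (s * z * s⁻¹)) = (b * (z * (s * z * s⁻¹)) * b⁻¹) * b := by group
        _ = z * (s * z * s⁻¹) * b := by rw [h3 b hb]
    · exact hA.sq _ (mul_mem hz.1 hsz.1)

end KL

end Cfsg.Agent.Omega.NO1.NatWr
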