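import Mathlib.Algebra.Field.ZMod
import Mathlib.GroupTheory.PGroup
import Mathlib.GroupTheory.Sylow
import Mathlib.Data.Set.Card
import Mathlib.Tactic.Group
import Cfsg.Agent.Lib.FrattiniPGroup
import Mathlib.Tactic.LinearCombination

/-!
# NatMany, step (N5) of text #15037 (helper675): `q = 2`, at least four summands, the combinatorial core

A group `C` acts (by conjugation) on an elementary abelian 2-group `W`; `z i` (`i ∈ I`) are elements of `W`
in one orbit of `C`, and `v i ∈ C` induces on `W` a transvection with centre `z i`.  `Y s = ∏_{l ∈ s} z l`.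
Hypothesis (KL): if `s` is one half of the index set, `i ∉ s`, and `g ∈ C` centralises `Y s`, then
`v i * (g * v i * g⁻¹)` has order a power of 2.  Then the component (in the graph of adjacency of the
transvection centres) of each `z i` contains an odd number of the `z l` with `l ∈ s` and an odd number of
those with `l ∉ s`.
-/

set_option autoImplicit false

namespace Cfsg.Agent.Omega.NO1.WRFive

open Subgroup

variable {G : Type*} [Group G]

/-- `g ∈ C` induces on `W` a transvection with centre `p` (or the identity). -/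
def Tv (C W : Subgroup G) (p g : G) : Prop :=
  g ∈ C ∧ ∀ w ∈ W, g * w * g⁻¹ = w ∨ g * w * g⁻¹ = w * p

open Classical in
/-- the functional of the transvection -/
noncomputable def ph (g w : G) : ZMod 2 := if g * w * g⁻¹ = w then 0 else 1

theorem ph_zero {g w : G} : ph g w = 0 ↔ g * w * g⁻¹ = w := by
  unfold ph
  split_ifs with h
  · exact iff_of_true rfl h
  · exact iff_of_false one_ne_zero h

theorem ph_one {g w : G} : ph g w = 1 ↔ g * w * g⁻¹ ≠ w := by
  unfold ph
  split_ifs with h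
  · exact iff_of_false zero_ne_one (fun h' => h' h)
  · exact iff_of_true rfl h

theorem zmod_cases (x : ZMod 2) : x = 0 ∨ x = 1 := by
  revert x; decide

theorem ph_ne_zero {g w : G} (h : ph g w ≠ 0) : ph g w = 1 :=
  (zmod_cases _).resolve_left h

/-- `C` normalises the elementary abelian 2-group `W`. -/
structure WC (C W : Subgroup G) : Prop where
  norm : ∀ c ∈ C, ∀ w ∈ W, c * w * c⁻¹ ∈ W
  comm : ∀ a ∈ W, ∀ b ∈ W, a * b = b * a
  sq : ∀ a ∈ W, a * a = 1

section basic

variable {C W : Subgroup G} {p g h : G}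

theorem Tv.of_one (t : Tv C W p g) {w : G} (hw : w ∈ W) (h1 : ph g w = 1) : g * w * g⁻¹ = w * p :=
  (t.2 w hw).resolve_left (ph_one.1 h1)

theorem ph_self (c : WC C W) (hp : p ∈ W) (hp1 : p ≠ 1) (t : Tv C W p g) : ph g p = 0 := by
  rw [ph_zero]
  rcases t.2 p hp with h | h
  · exact h
  · rw [c.sq p hp] at h
    have : p = 1 := by
      have h2 : g * p = g := by simpa using congrArg (· * g) h
      simpa using h2
    exact absurd this hp1

theorem ph_mul (c : WC C W) (hp : p ∈ W) (t : Tv C W p g) {a b : G} (ha : a ∈ W) (hb : b ∈ W) :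
    ph g (a * b) = ph g a + ph g b := by
  have e : g * (a * b) * g⁻¹ = (g * a * g⁻¹) * (g * b * g⁻¹) := by group
  rcases zmod_cases (ph g a) with h1 | h1 <;> rcases zmod_cases (ph g b) with h2 | h2
  · rw [h1, h2, add_zero, ph_zero, e, ph_zero.1 h1, ph_zero.1 h2]
  · rw [h1, h2, zero_add, ph_one, e, ph_zero.1 h1, t.of_one hb h2, ← mul_assoc]
    intro h
    rw [ph_one] at h2
    apply h2
    rw [(t.2 b hb).resolve_left h2, mul_eq_left.1 h, mul_one]
  · rw [h1, h2, add_zero, ph_one, e, ph_zero.1 h2, t.of_one ha h1]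
    intro h
    rw [ph_one] at h1
    apply h1
    rw [(t.2 a ha).resolve_left h1]
    have h3 : a * p * b = a * b * p := by rw [mul_assoc, c.comm p hp b hb, mul_assoc]
    rw [h3] at h
    rw [mul_eq_left.1 h, mul_one]
  · rw [h1, h2, show (1 : ZMod 2) + 1 = 0 from by decide, ph_zero, e, t.of_one ha h1, t.of_one hb h2]
    calc a * p * (b * p) = a * (p * b) * p := by group
      _ = a * (b * p) * p := by rw [c.comm p hp b hb]
      _ = a * b * (p * p) := by group
      _ = a * b := by rw [c.sq p hp, mul_one]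

theorem Tv.mul (c : WC C W) (hp : p ∈ W) (hp1 : p ≠ 1) (t : Tv C W p g) (u : Tv C W p h) :
    Tv C W p (g * h) ∧ ∀ w ∈ W, ph (g * h) w = ph g w + ph h w := by
  have e : ∀ w, g * h * w * (g * h)⁻¹ = g * (h * w * h⁻¹) * g⁻¹ := fun w => by group
  have hgp := ph_zero.1 (ph_self c hp hp1 t)
  have key : ∀ w ∈ W, (ph (g * h) w = ph g w + ph h w) ∧
      (g * h * w * (g * h)⁻¹ = w ∨ g * h * w * (g * h)⁻¹ = w * p) := by
    intro w hw
    rcases zmod_cases (ph h w) with h2 | h2 <;> rcases zmod_cases (ph g w) with h1 | h1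
    · have h3 : g * h * w * (g * h)⁻¹ = w := by rw [e, ph_zero.1 h2, ph_zero.1 h1]
      exact ⟨by rw [h1, h2, add_zero, ph_zero, h3], Or.inl h3⟩
    · have h3 : g * h * w * (g * h)⁻¹ = w * p := by rw [e, ph_zero.1 h2, t.of_one hw h1]
      refine ⟨?_, Or.inr h3⟩
      rw [h1, h2, add_zero, ph_one, h3]
      exact fun h => hp1 (mul_eq_left.1 h)
    · have h3 : g * h * w * (g * h)⁻¹ = w * p := by
        rw [e, u.of_one hw h2]
        calc g * (w * p) * g⁻¹ = (g * w * g⁻¹) * (g * p * g⁻¹) := by group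
          _ = w * p := by rw [ph_zero.1 h1, hgp]
      refine ⟨?_, Or.inr h3⟩
      rw [h1, h2, zero_add, ph_one, h3]
      exact fun h => hp1 (mul_eq_left.1 h)
    · have h3 : g * h * w * (g * h)⁻¹ = w := by
        rw [e, u.of_one hw h2]
        calc g * (w * p) * g⁻¹ = (g * w * g⁻¹) * (g * p * g⁻¹) := by group
          _ = w * p * p := by rw [t.of_one hw h1, hgp]
          _ = w := by rw [mul_assoc, c.sq p hp, mul_one]
      exact ⟨by rw [h1, h2, show (1 : ZMod 2) + 1 = 0 from by decide, ph_zero, h3], Or.inl h3⟩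
  exact ⟨⟨mul_mem t.1 u.1, fun w hw => (key w hw).2⟩, fun w hw => (key w hw).1⟩

theorem ph_conj (c g w : G) : ph (c * g * c⁻¹) (c * w * c⁻¹) = ph g w := by
  have h : c * g * c⁻¹ * (c * w * c⁻¹) * (c * g * c⁻¹)⁻¹ = c * w * c⁻¹ ↔ g * w * g⁻¹ = w := by
    have e : c * g * c⁻¹ * (c * w * c⁻¹) * (c * g * c⁻¹)⁻¹ = c * (g * w * g⁻¹) * c⁻¹ := by group
    rw [e]
    constructor
    · intro h
      exact mul_left_cancel (mul_right_cancel h)
    · intro h
      rw [h]
  rcases zmod_cases (ph g w) with h1 | h1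
  · rw [h1]; exact ph_zero.2 (h.2 (ph_zero.1 h1))
  · rw [h1]; exact ph_one.2 fun h' => ph_one.1 h1 (h.1 h')

theorem Tv.conj (c : WC C W) (t : Tv C W p g) {x : G} (hx : x ∈ C) :
    Tv C W (x * p * x⁻¹) (x * g * x⁻¹) := by
  refine ⟨mul_mem (mul_mem hx t.1) (inv_mem hx), fun w hw => ?_⟩
  have hw' : x⁻¹ * w * x ∈ W := by
    have := c.norm x⁻¹ (inv_mem hx) w hw
    rwa [inv_inv] at this
  rcases t.2 _ hw' with h | h
  · left
    calc x * g * x⁻¹ * w * (x * g * x⁻¹)⁻¹ = x * (g * (x⁻¹ * w * x) * g⁻¹) * x⁻¹ := by group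
      _ = w := by rw [h]; group
  · right
    calc x * g * x⁻¹ * w * (x * g * x⁻¹)⁻¹ = x * (g * (x⁻¹ * w * x) * g⁻¹) * x⁻¹ := by group
      _ = w * (x * p * x⁻¹) := by rw [h]; group

/-- adjacency of centres -/
def Adj (C W : Subgroup G) (r r' : G) : Prop := ∃ g, Tv C W r g ∧ ph g r' = 1

theorem Adj.conj (c : WC C W) {r r' : G} (h : Adj C W r r') {x : G} (hx : x ∈ C) :
    Adj C W (x * r * x⁻¹) (x * r' * x⁻¹) := by
  obtain ⟨g, t, h1⟩ := h
  exact ⟨x * g * x⁻¹, t.conj c hx, by rw [ph_conj]; exact h1⟩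

/-- the functionals of the transvections with centre `r` -/
def Phi (C W : Subgroup G) (r : G) : Set (W → ZMod 2) := {f | ∃ g, Tv C W r g ∧ ∀ w : W, f w = ph g w}

theorem ncard_Phi (c : WC C W) [Finite G] (r : G) {x : G} (hx : x ∈ C) :
    (Phi C W (x * r * x⁻¹)).ncard = (Phi C W r).ncard := by
  have hle : ∀ r : G, ∀ x ∈ C, (Phi C W r).ncard ≤ (Phi C W (x * r * x⁻¹)).ncard := by
    intro r x hx
    let F : (W → ZMod 2) → (W → ZMod 2) := fun f w =>
      f ⟨x⁻¹ * w * x, by have := c.norm x⁻¹ (inv_mem hx) w w.2; rwa [inv_inv] at this⟩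
    have hF : Function.Injective F := by
      intro f f' hff
      funext w
      have h1 := congrFun hff ⟨x * w * x⁻¹, c.norm x hx w w.2⟩
      have h2 : (⟨x⁻¹ * (x * w * x⁻¹) * x, by
          have := c.norm x⁻¹ (inv_mem hx) _ (c.norm x hx w w.2); rwa [inv_inv] at this⟩ : W) = w :=
        Subtype.ext (by group)
      simp only [F] at h1
      rw [h2] at h1
      exact h1
    have hsub : F '' Phi C W r ⊆ Phi C W (x * r * x⁻¹) := by
      rintro _ ⟨f, ⟨g, t, hf⟩, rfl⟩
      refine ⟨x * g * x⁻¹, t.conj c hx, fun w => ?_⟩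
      simp only [F]
      rw [hf]
      have h3 : ph (x * g * x⁻¹) (x * (x⁻¹ * w * x) * x⁻¹) = ph g (x⁻¹ * w * x) := ph_conj _ _ _
      rw [show x * (x⁻¹ * (w : G) * x) * x⁻¹ = w from by group] at h3
      exact h3.symm
    have : Finite (W → ZMod 2) := inferInstance
    calc (Phi C W r).ncard = (F '' Phi C W r).ncard := (Set.ncard_image_of_injective _ hF).symm
      _ ≤ _ := Set.ncard_le_ncard hsub (Set.toFinite _)
  apply le_antisymm _ (hle r x hx)
  have := hle (x * r * x⁻¹) x⁻¹ (inv_mem hx)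
  rwa [show x⁻¹ * (x * r * x⁻¹) * x⁻¹⁻¹ = r from by group] at this

/-- Adjacency is symmetric on an orbit of `C`. -/
theorem Adj.symm (c : WC C W) [Finite G] {r : G} (hr : r ∈ W) (hr1 : r ≠ 1) {x : G} (hx : x ∈ C)
    (h : Adj C W r (x * r * x⁻¹)) : Adj C W (x * r * x⁻¹) r := by
  set s := x * r * x⁻¹ with hs
  have hsW : s ∈ W := c.norm x hx r hr
  have hs1 : s ≠ 1 := by
    intro h1
    apply hr1
    have : x * r = x := by
      have := congrArg (· * x) (hs.symm.trans h1)
      simpa using this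
    simpa using this
  by_contra hcon
  obtain ⟨g, t, hg⟩ := h
  have hz : ∀ k, Tv C W s k → ph k r = 0 := by
    intro k hk
    by_contra h1
    exact hcon ⟨k, hk, ph_ne_zero h1⟩
  have hgs : g * s * g⁻¹ = s * r := t.of_one hsW hg
  have hsub : Phi C W s ⊆ Phi C W r := by
    rintro f ⟨k, hk, hf⟩
    -- the conjugate `g k g⁻¹` has centre `s r` and functional `ph k`
    have hkr := ph_zero.1 (hz k hk)
    have hks := ph_zero.1 (ph_self c hsW hs1 hk)
    have hk' : Tv C W (s * r) (g * k * g⁻¹) := by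
      have := hk.conj c t.1
      rwa [hgs] at this
    have hsr : s * r ∈ W := mul_mem hsW hr
    -- functional of the conjugate
    have hphi : ∀ w ∈ W, ph (g * k * g⁻¹) w = ph k w := by
      intro w hw
      have hw' : g⁻¹ * w * g ∈ W := by
        have := c.norm g⁻¹ (inv_mem t.1) w hw
        rwa [inv_inv] at this
      have h1 : ph (g * k * g⁻¹) w = ph k (g⁻¹ * w * g) := by
        have := ph_conj g k (g⁻¹ * w * g)
        rwa [show g * (g⁻¹ * w * g) * g⁻¹ = w from by group] at this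
      rw [h1]
      -- `g⁻¹ w g = w` or `w r`
      rcases t.2 _ hw' with h2 | h2
      · have : g⁻¹ * w * g = w := by
          rw [← h2]; group
        rw [this]
      · have h3 : w = g⁻¹ * w * g * r := by
          rw [← h2]; group
        have h4 : ph k w = ph k (g⁻¹ * w * g) + ph k r := by
          conv_lhs => rw [h3]
          exact ph_mul c hsW hk hw' hr
        rw [h4, hz k hk, add_zero]
    -- the product `(g k g⁻¹) k` has centre `r`
    refine ⟨g * k * g⁻¹ * k, ⟨mul_mem hk'.1 hk.1, fun w hw => ?_⟩, fun w => ?_⟩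
    · rcases zmod_cases (ph k w) with h1 | h1
      · left
        have h2 := ph_zero.1 h1
        have h3 := ph_zero.1 ((hphi w hw).trans h1)
        calc g * k * g⁻¹ * k * w * (g * k * g⁻¹ * k)⁻¹
            = g * k * g⁻¹ * (k * w * k⁻¹) * (g * k * g⁻¹)⁻¹ := by group
          _ = w := by rw [h2, h3]
      · right
        have h2 := hk.of_one hw h1
        have h3 := hk'.of_one hw ((hphi w hw).trans h1)
        have h4 : ph (g * k * g⁻¹) s = 0 := (hphi s hsW).trans (ph_self c hsW hs1 hk)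
        have h5 := ph_zero.1 h4
        calc g * k * g⁻¹ * k * w * (g * k * g⁻¹ * k)⁻¹
            = g * k * g⁻¹ * (k * w * k⁻¹) * (g * k * g⁻¹)⁻¹ := by group
          _ = (g * k * g⁻¹ * w * (g * k * g⁻¹)⁻¹) * (g * k * g⁻¹ * s * (g * k * g⁻¹)⁻¹) := by
              rw [h2]; group
          _ = w * (s * r) * s := by rw [h3, h5]
          _ = w * (s * (r * s)) := by group
          _ = w * (s * (s * r)) := by rw [c.comm r hr s hsW]
          _ = w * ((s * s) * r) := by group
          _ = w * r := by rw [c.sq s hsW, one_mul]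
    · rw [hf]
      rcases zmod_cases (ph k w) with h1 | h1
      · rw [h1]
        symm
        rw [ph_zero]
        have h2 := ph_zero.1 h1
        have h3 := ph_zero.1 ((hphi w w.2).trans h1)
        calc g * k * g⁻¹ * k * w * (g * k * g⁻¹ * k)⁻¹
            = g * k * g⁻¹ * (k * w * k⁻¹) * (g * k * g⁻¹)⁻¹ := by group
          _ = w := by rw [h2, h3]
      · rw [h1]
        symm
        rw [ph_one]
        have h2 := hk.of_one w.2 h1
        have h3 := hk'.of_one w.2 ((hphi w w.2).trans h1)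
        have h4 : ph (g * k * g⁻¹) s = 0 := (hphi s hsW).trans (ph_self c hsW hs1 hk)
        have h5 := ph_zero.1 h4
        have h6 : g * k * g⁻¹ * k * w * (g * k * g⁻¹ * k)⁻¹ = w * r := by
          calc g * k * g⁻¹ * k * w * (g * k * g⁻¹ * k)⁻¹
              = g * k * g⁻¹ * (k * w * k⁻¹) * (g * k * g⁻¹)⁻¹ := by group
            _ = (g * k * g⁻¹ * w * (g * k * g⁻¹)⁻¹) * (g * k * g⁻¹ * s * (g * k * g⁻¹)⁻¹) := by
                rw [h2]; group
            _ = w * (s * r) * s := by rw [h3, h5]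
            _ = w * (s * (r * s)) := by group
            _ = w * (s * (s * r)) := by rw [c.comm r hr s hsW]
            _ = w * ((s * s) * r) := by group
            _ = w * r := by rw [c.sq s hsW, one_mul]
        rw [h6]
        exact fun h => hr1 (mul_eq_left.1 h)
  have heq : Phi C W s = Phi C W r :=
    Set.eq_of_subset_of_ncard_le hsub (ncard_Phi c r hx).ge (Set.toFinite _)
  have hgm : (fun w : W => ph g w) ∈ Phi C W r := ⟨g, t, fun w => rfl⟩
  rw [← heq] at hgm
  obtain ⟨k, hk, hf⟩ := hgm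
  have h1 := hf ⟨s, hsW⟩
  simp only at h1
  rw [hg, ph_self c hsW hs1 hk] at h1
  exact one_ne_zero h1

end basic

/-! ### The component of one `z i` -/

/-- The data at one index: `z`, `v` with `v` inducing a transvection with centre `z`, and `y` with (KL). -/
structure One (C W : Subgroup G) (z v y : G) : Prop where
  zW : z ∈ W
  z1 : z ≠ 1
  yW : y ∈ W
  tv : Tv C W z v
  vy : v * y * v⁻¹ = y
  nt : ∃ c ∈ C, ph v (c * z * c⁻¹) = 1
  kl : ∀ g ∈ C, g * y * g⁻¹ = y → ∃ n : ℕ, (v * (g * v * g⁻¹)) ^ 2 ^ n = 1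

/-- the points -/
def PP (C : Subgroup G) (z : G) : Set G := {p | ∃ c ∈ C, p = c * z * c⁻¹}

/-- adjacency inside the set of points -/
def AdjP (C W : Subgroup G) (z r r' : G) : Prop := r ∈ PP C z ∧ r' ∈ PP C z ∧ Adj C W r r'

section one

variable {C W : Subgroup G} {z v y : G}

theorem pp_conj {p : G} (hp : p ∈ PP C z) {x : G} (hx : x ∈ C) : x * p * x⁻¹ ∈ PP C z := by
  obtain ⟨c, hc, rfl⟩ := hp
  exact ⟨x * c, mul_mem hx hc, by group⟩

theorem pp_mem (c : WC C W) (hz : z ∈ W) {p : G} (hp : p ∈ PP C z) : p ∈ W := by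
  obtain ⟨x, hx, rfl⟩ := hp
  exact c.norm x hx z hz

theorem pp_ne {p : G} (hz : z ≠ 1) (hp : p ∈ PP C z) : p ≠ 1 := by
  obtain ⟨x, hx, rfl⟩ := hp
  intro h
  apply hz
  have : x * z = x := by simpa using congrArg (· * x) h
  simpa using this

theorem pp_self : z ∈ PP C z := ⟨1, one_mem C, by group⟩

theorem pp_trans {p p' : G} (hp : p ∈ PP C z) (hp' : p' ∈ PP C z) : ∃ x ∈ C, p' = x * p * x⁻¹ := by
  obtain ⟨x, hx, rfl⟩ := hp
  obtain ⟨y, hy, rfl⟩ := hp'
  exact ⟨y * x⁻¹, mul_mem hy (inv_mem hx), by group⟩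

theorem adjp_symm (c : WC C W) [Finite G] (hz : z ∈ W) (hz1 : z ≠ 1) {p p' : G} (hp : p ∈ PP C z)
    (hp' : p' ∈ PP C z) (h : Adj C W p p') : Adj C W p' p := by
  obtain ⟨x, hx, rfl⟩ := pp_trans hp hp'
  exact Adj.symm c (pp_mem c hz hp) (pp_ne hz1 hp) hx h

/-- The form of (KL) used below. -/
theorem One.kl' (c : WC C W) (o : One C W z v y) {p g : G} (hp : p ∈ W) (hp1 : p ≠ 1) (t : Tv C W p g)
    (hy : ph g y = 0) (hvp : ph v p = 1) : ph g z = 0 := by
  by_contra hcon
  have hgz := ph_ne_zero hcon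
  obtain ⟨n, hn⟩ := o.kl g t.1 (ph_zero.1 hy)
  have e1 : v * p * v⁻¹ = p * z := o.tv.of_one hp hvp
  have e2 : v * z * v⁻¹ = z := ph_zero.1 (ph_self c o.zW o.z1 o.tv)
  have e3 : g * z * g⁻¹ = z * p := t.of_one o.zW hgz
  have e4 : g * p * g⁻¹ = p := ph_zero.1 (ph_self c hp hp1 t)
  have e4' : g⁻¹ * p * g = p := by
    calc g⁻¹ * p * g = g⁻¹ * (g * p * g⁻¹) * g := by rw [e4]
      _ = p := by group
  -- `g⁻¹ z g = z p`
  have e3' : g⁻¹ * z * g = z * p := by
    have h1 : g * (z * p) * g⁻¹ = z := by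
      calc g * (z * p) * g⁻¹ = (g * z * g⁻¹) * (g * p * g⁻¹) := by group
        _ = z * (p * p) := by rw [e3, e4]; group
        _ = z := by rw [c.sq p hp, mul_one]
    calc g⁻¹ * z * g = g⁻¹ * (g * (z * p) * g⁻¹) * g := by rw [h1]
      _ = z * p := by group
  have cpz := c.comm p hp z o.zW
  have hpp := c.sq p hp
  have hzz := c.sq z o.zW
  set x := v * (g * v * g⁻¹) with hx
  -- `x p x⁻¹ = z`
  have f1 : x * p * x⁻¹ = z := by
    calc x * p * x⁻¹ = v * (g * (v * (g⁻¹ * p * g) * v⁻¹) * g⁻¹) * v⁻¹ := by rw [hx]; group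
      _ = v * (g * (p * z) * g⁻¹) * v⁻¹ := by rw [e4', e1]
      _ = v * ((g * p * g⁻¹) * (g * z * g⁻¹)) * v⁻¹ := by group
      _ = v * (p * (z * p)) * v⁻¹ := by rw [e3, e4]
      _ = v * z * v⁻¹ := by rw [← cpz, ← mul_assoc p p z, hpp, one_mul]
      _ = z := e2
  -- `x z x⁻¹ = p z`
  have f2 : x * z * x⁻¹ = p * z := by
    calc x * z * x⁻¹ = v * (g * (v * (g⁻¹ * z * g) * v⁻¹) * g⁻¹) * v⁻¹ := by rw [hx]; group
      _ = v * (g * ((v * z * v⁻¹) * (v * p * v⁻¹)) * g⁻¹) * v⁻¹ := by rw [e3']; group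
      _ = v * (g * (z * (p * z)) * g⁻¹) * v⁻¹ := by rw [e2, e1]
      _ = v * (g * p * g⁻¹) * v⁻¹ := by rw [cpz, ← mul_assoc z z p, hzz, one_mul]
      _ = p * z := by rw [e4, e1]
  -- `x³` centralises `p`
  have f3 : x ^ 3 * p * (x ^ 3)⁻¹ = p := by
    calc x ^ 3 * p * (x ^ 3)⁻¹ = x * (x * (x * p * x⁻¹) * x⁻¹) * x⁻¹ := by
          rw [pow_succ, pow_succ, pow_one]; group
      _ = x * (p * z) * x⁻¹ := by rw [f1, f2]
      _ = (x * p * x⁻¹) * (x * z * x⁻¹) := by group
      _ = z * (p * z) := by rw [f1, f2]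
      _ = p := by rw [cpz, ← mul_assoc, hzz, one_mul]
  have f4 : x ^ 3 * p = p * x ^ 3 := by
    calc x ^ 3 * p = (x ^ 3 * p * (x ^ 3)⁻¹) * x ^ 3 := by group
      _ = p * x ^ 3 := by rw [f3]
  have hcop : Nat.Coprime 3 (2 ^ n) := Nat.Coprime.pow_right n (by decide)
  obtain ⟨m, hm⟩ : ∃ m : ℕ, (x ^ 3) ^ m = x := by
    have hord : (orderOf x).Coprime 3 :=
      (Nat.Coprime.coprime_dvd_right (orderOf_dvd_of_pow_eq_one hn) hcop).symm
    exact exists_pow_eq_self_of_coprime hord.symm
  have f5 : x * p = p * x := by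
    have : Commute (x ^ 3) p := f4
    have h2 := this.pow_left m
    rw [hm] at h2
    exact h2
  have f6 : z = p := by
    rw [← f1, f5]; group
  rw [f6] at hgz
  have := ph_self c hp hp1 t
  rw [this] at hgz
  exact zero_ne_one hgz

/-- `q` with `ν(q) = 1`. -/
def AA (C : Subgroup G) (z v : G) : Set G := {q | q ∈ PP C z ∧ ph v q = 1}

theorem One.step1 (c : WC C W) [Finite G] (o : One C W z v y) {q : G} (hq : q ∈ AA C z v) {g : G}
    (t : Tv C W q g) : ph g z = ph g y := by
  have hqW := pp_mem c o.zW hq.1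
  have hq1 := pp_ne o.z1 hq.1
  have hadj : Adj C W q z := adjp_symm c o.zW o.z1 pp_self hq.1 ⟨v, o.tv, hq.2⟩
  obtain ⟨k, tk, hk⟩ := hadj
  have hky : ph k y = 1 := by
    rcases zmod_cases (ph k y) with h | h
    · have := o.kl' c hqW hq1 tk h hq.2
      rw [this] at hk
      exact absurd hk zero_ne_one
    · exact h
  rcases zmod_cases (ph g y) with h | h
  · rw [h]; exact o.kl' c hqW hq1 t h hq.2
  · obtain ⟨tm, hm⟩ := t.mul c hqW hq1 tk
    have h1 : ph (g * k) y = 0 := by rw [hm y o.yW, h, hky]; decide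
    have h2 := o.kl' c hqW hq1 tm h1 hq.2
    rw [hm z o.zW, hk] at h2
    rw [h]
    rcases zmod_cases (ph g z) with h3 | h3
    · rw [h3] at h2; exact absurd h2 (by decide)
    · exact h3

theorem One.step2 (c : WC C W) [Finite G] (o : One C W z v y) {q r : G} (hq : q ∈ AA C z v)
    (hr : r ∈ PP C z) (hqr : Adj C W q r) : (r ∈ AA C z v ∨ (r * q ∈ AA C z v)) ∧
      ∀ g, Tv C W r g → ph g z = ph g y := by
  have hqW := pp_mem c o.zW hq.1
  have hq1 := pp_ne o.z1 hq.1
  have hrW := pp_mem c o.zW hr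
  rcases zmod_cases (ph v r) with h0 | h0
  · obtain ⟨k, tk, hk⟩ := hqr
    have e : k * r * k⁻¹ = r * q := tk.of_one hrW hk
    have hrq : r * q ∈ AA C z v := by
      refine ⟨by rw [← e]; exact pp_conj hr tk.1, ?_⟩
      rw [ph_mul c o.zW o.tv hrW hqW, h0, hq.2, zero_add]
    refine ⟨Or.inr hrq, fun g t => ?_⟩
    -- the conjugate by `k`
    have t' : Tv C W (r * q) (k * g * k⁻¹) := by
      have := t.conj c tk.1
      rwa [e] at this
    have h1 := o.step1 c hrq t'
    have key : ∀ w ∈ W, ph (k * g * k⁻¹) w = ph g w + ph k w * ph g q := by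
      intro w hw
      have hw' : k⁻¹ * w * k ∈ W := by
        have := c.norm k⁻¹ (inv_mem tk.1) w hw
        rwa [inv_inv] at this
      have e1 : ph (k * g * k⁻¹) w = ph g (k⁻¹ * w * k) := by
        have := ph_conj k g (k⁻¹ * w * k)
        rwa [show k * (k⁻¹ * w * k) * k⁻¹ = w from by group] at this
      rw [e1]
      have e2 : ph k (k⁻¹ * w * k) = ph k w := by
        have := ph_conj k k (k⁻¹ * w * k)
        rw [show k * (k⁻¹ * w * k) * k⁻¹ = w from by group, show k * k * k⁻¹ = k from by group] at this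
        exact this.symm
      rcases zmod_cases (ph k w) with h | h
      · rw [h, zero_mul, add_zero]
        rw [h] at e2
        have h3 := ph_zero.1 e2
        have : w = k⁻¹ * w * k := by
          rw [← h3]; group
        rw [← this]
      · rw [h, one_mul]
        have h3 := tk.of_one hw' (e2.trans h)
        have h4 : w = k⁻¹ * w * k * q := by
          rw [← h3]; group
        have h5 : ph g w = ph g (k⁻¹ * w * k) + ph g q := by
          conv_lhs => rw [h4]
          exact ph_mul c hrW t hw' hqW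
        rw [h5, add_assoc, show ph g q + ph g q = 0 from by
          rcases zmod_cases (ph g q) with h | h <;> rw [h] <;> decide, add_zero]
    rw [key z o.zW, key y o.yW, o.step1 c hq tk] at h1
    exact add_right_cancel h1
  · exact ⟨Or.inl ⟨hr, h0⟩, fun g t => o.step1 c ⟨hr, h0⟩ t⟩

/-- The set `A ∪ N(A)` is closed under adjacency. -/
theorem One.closed (c : WC C W) [Finite G] (o : One C W z v y) {r r' : G}
    (h : r ∈ AA C z v ∨ (r ∈ PP C z ∧ ∃ q ∈ AA C z v, Adj C W q r)) (ha : AdjP C W z r r') :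
    r' ∈ AA C z v ∨ (r' ∈ PP C z ∧ ∃ q ∈ AA C z v, Adj C W q r') := by
  right
  refine ⟨ha.2.1, ?_⟩
  rcases h with h | ⟨hr, q, hq, hqr⟩
  · exact ⟨r, h, ha.2.2⟩
  · rcases (o.step2 c hq hr hqr).1 with h | h
    · exact ⟨r, h, ha.2.2⟩
    · obtain ⟨k, tk, hk⟩ := adjp_symm c o.zW o.z1 hr ha.2.1 ha.2.2
      have hrW := pp_mem c o.zW hr
      have hqW := pp_mem c o.zW hq.1
      have hr'W := pp_mem c o.zW ha.2.1
      rcases zmod_cases (ph k q) with h1 | h1
      · refine ⟨r * q, h, adjp_symm c o.zW o.z1 ha.2.1 h.1 ⟨k, tk, ?_⟩⟩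
        rw [ph_mul c hr'W tk hrW hqW, hk, h1, add_zero]
      · exact ⟨q, hq, adjp_symm c o.zW o.z1 ha.2.1 hq.1 ⟨k, tk, h1⟩⟩

theorem One.self_mem (c : WC C W) [Finite G] (o : One C W z v y) :
    z ∈ AA C z v ∨ (z ∈ PP C z ∧ ∃ q ∈ AA C z v, Adj C W q z) := by
  obtain ⟨x, hx, h1⟩ := o.nt
  have hq : x * z * x⁻¹ ∈ AA C z v := ⟨⟨x, hx, rfl⟩, h1⟩
  exact Or.inr ⟨pp_self, _, hq, adjp_symm c o.zW o.z1 pp_self hq.1 ⟨v, o.tv, h1⟩⟩

/-- the connected component of `z` -/
def Cmp (C W : Subgroup G) (z r : G) : Prop := Relation.ReflTransGen (AdjP C W z) z r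

/-- **`φ(z) = φ(y)` for all transvections with centre in the component of `z`.** -/
theorem One.main (c : WC C W) [Finite G] (o : One C W z v y) {r : G} (hr : Cmp C W z r) :
    ∀ g, Tv C W r g → ph g z = ph g y := by
  have hmem : r ∈ AA C z v ∨ (r ∈ PP C z ∧ ∃ q ∈ AA C z v, Adj C W q r) := by
    induction hr with
    | refl => exact o.self_mem c
    | tail _ ha ih => exact o.closed c ih ha
  rcases hmem with h | ⟨hr, q, hq, hqr⟩
  · exact fun g t => o.step1 c h t
  · exact (o.step2 c hq hr hqr).2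

theorem pp_symm {r : G} (hr : r ∈ PP C z) : z ∈ PP C r := by
  obtain ⟨x, hx, rfl⟩ := hr
  exact ⟨x⁻¹, inv_mem hx, by group⟩

theorem pp_eq {r : G} (hr : r ∈ PP C z) : PP C r = PP C z := by
  obtain ⟨x, hx, rfl⟩ := hr
  ext p
  constructor
  · rintro ⟨y, hy, rfl⟩
    exact ⟨y * x, mul_mem hy hx, by group⟩
  · rintro ⟨y, hy, rfl⟩
    exact ⟨y * x⁻¹, mul_mem hy (inv_mem hx), by group⟩

theorem cmp_mem {r : G} (hr : Cmp C W z r) : r ∈ PP C z := by
  induction hr with
  | refl => exact pp_self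
  | tail _ ha _ => exact ha.2.1

theorem adjP_symm (c : WC C W) [Finite G] (hz : z ∈ W) (hz1 : z ≠ 1) {r r' : G} (h : AdjP C W z r r') :
    AdjP C W z r' r :=
  ⟨h.2.1, h.1, adjp_symm c hz hz1 h.1 h.2.1 h.2.2⟩

theorem adjP_eq {r : G} (hr : r ∈ PP C z) : AdjP C W r = AdjP C W z := by
  funext a b
  unfold AdjP
  rw [pp_eq hr]

/-- `Cmp` is symmetric -/
theorem cmp_symm (c : WC C W) [Finite G] (hz : z ∈ W) (hz1 : z ≠ 1) {r : G} (hr : Cmp C W z r) :
    Cmp C W r z := by
  have h1 := cmp_mem hr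
  unfold Cmp at hr ⊢
  rw [adjP_eq h1]
  clear h1
  induction hr with
  | refl => exact Relation.ReflTransGen.refl
  | tail _ ha ih => exact Relation.ReflTransGen.head (adjP_symm c hz hz1 ha) ih

theorem cmp_trans {r r' : G} (h : Cmp C W z r) (h' : Cmp C W r r') : Cmp C W z r' := by
  have h1 := cmp_mem h
  unfold Cmp at h h' ⊢
  rw [adjP_eq h1] at h'
  exact h.trans h'

theorem cmp_conj (c : WC C W) {r x : G} (h : Cmp C W z r) (hx : x ∈ C) :
    Cmp C W (x * z * x⁻¹) (x * r * x⁻¹) := by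
  have h0 : x * z * x⁻¹ ∈ PP C z := ⟨x, hx, rfl⟩
  unfold Cmp at h ⊢
  rw [adjP_eq h0]
  clear h0
  induction h with
  | refl => exact Relation.ReflTransGen.refl
  | tail _ ha ih =>
    exact ih.tail ⟨pp_conj ha.1 hx, pp_conj ha.2.1 hx, ha.2.2.conj c hx⟩

end one

/-! ### The counting -/

section count

variable {I : Type*} [Fintype I] [DecidableEq I]

/-- The data of the core. -/
structure Core (C W : Subgroup G) (z v : I → G) (Y : Finset I → G) (Half : Finset I → Prop) : Prop where
  wc : WC C W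
  zW : ∀ i, z i ∈ W
  z1 : ∀ i, z i ≠ 1
  orb : ∀ i j, ∃ c ∈ C, z j = c * z i * c⁻¹
  tv : ∀ i, Tv C W (z i) (v i)
  vz : ∀ i j, v i * z j * (v i)⁻¹ = z j
  Y0 : Y ∅ = 1
  Yi : ∀ a s, a ∉ s → Y (insert a s) = z a * Y s
  nt : ∀ i, ∃ c ∈ C, ph (v i) (c * z i * c⁻¹) = 1
  compl : ∀ s, Half s → Half sᶜ
  kl : ∀ s, Half s → ∀ i ∉ s, ∀ g ∈ C, g * Y s * g⁻¹ = Y s →
    ∃ n : ℕ, (v i * (g * v i * g⁻¹)) ^ 2 ^ n = 1

variable {C W : Subgroup G} {z v : I → G} {Y : Finset I → G} {Half : Finset I → Prop}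
  (h : Core C W z v Y Half)

include h

theorem Core.Y_mem (s : Finset I) : Y s ∈ W := by
  induction s using Finset.induction_on with
  | empty => rw [h.Y0]; exact one_mem W
  | insert a s ha ih => rw [h.Yi a s ha]; exact mul_mem (h.zW a) ih

theorem Core.v_Y (i : I) (s : Finset I) : v i * Y s * (v i)⁻¹ = Y s := by
  induction s using Finset.induction_on with
  | empty => rw [h.Y0]; group
  | insert a s ha ih =>
    rw [h.Yi a s ha]
    calc v i * (z a * Y s) * (v i)⁻¹ = (v i * z a * (v i)⁻¹) * (v i * Y s * (v i)⁻¹) := by group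
      _ = z a * Y s := by rw [h.vz, ih]

theorem Core.ph_Y {p g : G} (hp : p ∈ W) (t : Tv C W p g) (s : Finset I) :
    ph g (Y s) = ∑ l ∈ s, ph g (z l) := by
  induction s using Finset.induction_on with
  | empty =>
    rw [h.Y0, Finset.sum_empty, ph_zero]
    group
  | insert a s ha ih =>
    rw [h.Yi a s ha, ph_mul h.wc hp t (h.zW a) (h.Y_mem s), ih, Finset.sum_insert ha]

theorem Core.one {s : Finset I} (hs : Half s) {i : I} (hi : i ∉ s) : One C W (z i) (v i) (Y s) where
  zW := h.zW i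
  z1 := h.z1 i
  yW := h.Y_mem s
  tv := h.tv i
  vy := h.v_Y i s
  nt := h.nt i
  kl := h.kl s hs i hi

theorem Core.pp (i j : I) : z j ∈ PP C (z i) := by
  obtain ⟨c, hc, e⟩ := h.orb i j
  exact ⟨c, hc, e⟩

open Classical in
/-- **Both halves meet the component of `z i` in an odd number of the `z l`** (first form). -/
theorem Core.odd_aux [Finite G] {s : Finset I} (hs : Half s) {i : I} (hi : i ∉ s) :
    Odd (s.filter fun l => Cmp C W (z i) (z l)).card ∧ Odd (sᶜ.filter fun l => Cmp C W (z i) (z l)).card := by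
  have c := h.wc
  -- a transvection `g` with centre `r` in the component, `ph g (z i) = 1`
  obtain ⟨x, hx, hvq⟩ := h.nt i
  set r := x * z i * x⁻¹ with hr
  have hrP : r ∈ PP C (z i) := ⟨x, hx, rfl⟩
  have hrW : r ∈ W := pp_mem c (h.zW i) hrP
  have hir : AdjP C W (z i) (z i) r := ⟨pp_self, hrP, ⟨v i, h.tv i, hvq⟩⟩
  have hcr : Cmp C W (z i) r := Relation.ReflTransGen.single hir
  obtain ⟨-, -, g, t, hg⟩ := adjP_symm c (h.zW i) (h.z1 i) hir
  have h1 : ph g (Y s) = 1 := by rw [← (h.one hs hi).main c hcr g t]; exact hg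
  -- the sums
  have key : ∀ u : Finset I, Half u → ph g (Y uᶜ) =
      ((uᶜ.filter fun l => Cmp C W (z i) (z l)).card : ZMod 2) * ph g (Y u) := by
    intro u hu
    rw [h.ph_Y hrW t uᶜ, ← Finset.sum_filter_add_sum_filter_not uᶜ fun l => Cmp C W (z i) (z l)]
    have e1 : ∑ l ∈ uᶜ.filter (fun l => ¬ Cmp C W (z i) (z l)), ph g (z l) = 0 := by
      apply Finset.sum_eq_zero
      intro l hl
      rw [Finset.mem_filter] at hl
      by_contra hne
      apply hl.2
      exact hcr.tail ⟨hrP, h.pp i l, g, t, ph_ne_zero hne⟩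
    have e2 : ∑ l ∈ uᶜ.filter (fun l => Cmp C W (z i) (z l)), ph g (z l) =
        ∑ l ∈ uᶜ.filter (fun l => Cmp C W (z i) (z l)), ph g (Y u) := by
      apply Finset.sum_congr rfl
      intro l hl
      rw [Finset.mem_filter, Finset.mem_compl] at hl
      have hlr : Cmp C W (z l) r := cmp_trans (cmp_symm c (h.zW i) (h.z1 i) hl.2) hcr
      exact (h.one hu hl.1).main c hlr g t
    rw [e1, e2, add_zero, Finset.sum_const, nsmul_eq_mul]
  have k1 := key s hs
  have k2 := key sᶜ (h.compl s hs)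
  rw [compl_compl] at k2
  rw [h1, mul_one] at k1
  rw [h1, k1] at k2
  have o : ∀ n : ℕ, (n : ZMod 2) = 1 ↔ Odd n := fun n => by
    rw [← Nat.cast_one, ZMod.natCast_eq_natCast_iff]
    exact Nat.odd_iff.symm
  rw [← o, ← o]
  rcases zmod_cases ((s.filter fun l => Cmp C W (z i) (z l)).card : ZMod 2) with h2 | h2 <;>
    rcases zmod_cases ((sᶜ.filter fun l => Cmp C W (z i) (z l)).card : ZMod 2) with h3 | h3 <;>
    rw [h2, h3] at k2
  · exact absurd k2 (by decide)
  · exact absurd k2 (by decide)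
  · exact absurd k2 (by decide)
  · exact ⟨h2, h3⟩

open Classical in
/-- **Both halves meet the component of `z i` in an odd number of the `z l`.** -/
theorem Core.odd [Finite G] {s : Finset I} (hs : Half s) (i : I) :
    Odd (s.filter fun l => Cmp C W (z i) (z l)).card ∧ Odd (sᶜ.filter fun l => Cmp C W (z i) (z l)).card := by
  by_cases hi : i ∈ s
  · have h1 := h.odd_aux (h.compl s hs) (i := i) (by rw [Finset.mem_compl]; exact not_not.2 hi)
    rw [compl_compl] at h1
    exact ⟨h1.2, h1.1⟩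
  · exact h.odd_aux hs hi

end count

/-! ### Halvings -/

section half

/-- A halving for a transitive action of a finite 2-group, containing the orbit of `K` through `i`. -/
theorem exists_half {A : Type*} [Group A] [Finite A] (hA : IsPGroup 2 A) {I : Type*} [MulAction A I]
    [MulAction.IsPretransitive A I] {K : Subgroup A} (hK : K ≠ ⊤) (i : I) (hi : MulAction.stabilizer A i ≤ K) :
    ∃ s : Set I, (∀ a ∈ K, a • i ∈ s) ∧ s.Nonempty ∧ sᶜ.Nonempty ∧
      (∀ a : A, (∀ j, a • j ∈ s ↔ j ∈ s) ∨ (∀ j, a • j ∈ s ↔ j ∉ s)) ∧ ∃ a : A, ∀ j, a • j ∈ s ↔ j ∉ s := by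
  have : Fact (Nat.Prime 2) := ⟨Nat.prime_two⟩
  obtain ⟨M, hM, hKM⟩ := (eq_top_or_exists_le_coatom K).resolve_left hK
  have hidx := Cfsg.Agent.Lib.FrattiniPGroup.index_of_coatom hA hM
  have hmem : ∀ b : A, b • i ∈ {j : I | ∃ m ∈ M, m • i = j} ↔ b ∈ M := by
    intro b
    constructor
    · rintro ⟨m, hm, hb⟩
      have h1 : m⁻¹ * b ∈ MulAction.stabilizer A i := by
        rw [MulAction.mem_stabilizer_iff, mul_smul, ← hb, inv_smul_smul]
      have h2 := mul_mem hm (hKM (hi h1))
      rwa [mul_inv_cancel_left] at h2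
    · intro hb
      exact ⟨b, hb, rfl⟩
  have hin : ∀ a ∈ M, ∀ j, a • j ∈ {j : I | ∃ m ∈ M, m • i = j} ↔ j ∈ {j : I | ∃ m ∈ M, m • i = j} := by
    intro a ha j
    obtain ⟨b, rfl⟩ := MulAction.exists_smul_eq A i j
    rw [← mul_smul, hmem, hmem]
    exact Subgroup.mul_mem_cancel_left M ha
  have hout : ∀ a, a ∉ M → ∀ j, a • j ∈ {j : I | ∃ m ∈ M, m • i = j} ↔ j ∉ {j : I | ∃ m ∈ M, m • i = j} := by
    intro a ha j
    obtain ⟨b, rfl⟩ := MulAction.exists_smul_eq A i j
    rw [← mul_smul, hmem, hmem, Subgroup.mul_mem_iff_of_index_two hidx]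
    exact ⟨fun h1 h2 => ha (h1.2 h2), fun h1 => iff_of_false ha h1⟩
  obtain ⟨a, ha⟩ : ∃ a : A, a ∉ M := by
    by_contra hcon
    push Not at hcon
    exact hM.1 (eq_top_iff.2 fun x _ => hcon x)
  refine ⟨{j : I | ∃ m ∈ M, m • i = j}, fun a ha => (hmem a).2 (hKM ha), ⟨i, 1, one_mem M, one_smul _ _⟩,
    ⟨a • i, fun h1 => ha ((hmem a).1 h1)⟩, fun a => ?_, a, hout a ha⟩
  by_cases h1 : a ∈ M
  · exact Or.inl (hin a h1)
  · exact Or.inr (hout a h1)

/-- `s` is a half of the index set: the 2-group `T` (acting on the `z i` by conjugation) preserves `{s, sᶜ}`. -/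
def Half (T : Subgroup G) {I : Type*} [Fintype I] [DecidableEq I] (z : I → G) (s : Finset I) : Prop :=
  s.Nonempty ∧ sᶜ.Nonempty ∧ ∀ t ∈ T, (∀ i j, t * z i * t⁻¹ = z j → (j ∈ s ↔ i ∈ s)) ∨
    (∀ i j, t * z i * t⁻¹ = z j → (j ∈ s ↔ i ∉ s))

theorem Half.compl {T : Subgroup G} {I : Type*} [Fintype I] [DecidableEq I] {z : I → G} {s : Finset I}
    (h : Half T z s) : Half T z sᶜ := by
  refine ⟨h.2.1, by rw [compl_compl]; exact h.1, fun t ht => ?_⟩
  rcases h.2.2 t ht with h1 | h1
  · left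
    intro i j e
    rw [Finset.mem_compl, Finset.mem_compl, h1 i j e]
  · right
    intro i j e
    rw [Finset.mem_compl, Finset.mem_compl, h1 i j e]

variable {I : Type*} [Fintype I] [DecidableEq I] {C W : Subgroup G} {z v : I → G} {Y : Finset I → G}

/-- There is a halving. -/
theorem exists_Half [Finite G] {T : Subgroup G} (hT : IsPGroup 2 T) (hinj : Function.Injective z)
    (perm : ∀ t ∈ T, ∀ i, ∃ j, t * z i * t⁻¹ = z j) (trans : ∀ i j, ∃ t ∈ T, t * z i * t⁻¹ = z j)
    (hcard : 2 ≤ Fintype.card I) : ∃ s, Half T z s := by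
  classical
  have hne : Nonempty I := Fintype.card_pos_iff.1 (by omega)
  obtain ⟨i⟩ := hne
  choose f hf using fun (t : T) (i : I) => perm t t.2 i
  let act : MulAction T I :=
    { smul := f
      one_smul := fun j => hinj (by
        change z (f 1 j) = z j
        rw [← hf]
        simp)
      mul_smul := fun a b j => hinj (by
        change z (f (a * b) j) = z (f a (f b j))
        rw [← hf, ← hf, ← hf]
        push_cast
        group) }
  have hact : ∀ (t : T) (j : I), z (t • j) = t * z j * (t : G)⁻¹ := fun t j => (hf t j).symm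
  have : MulAction.IsPretransitive T I := ⟨fun a b => by
    obtain ⟨t, ht, e⟩ := trans a b
    exact ⟨⟨t, ht⟩, hinj (by rw [hact]; exact e)⟩⟩
  have hst : MulAction.stabilizer T i ≠ ⊤ := by
    intro htop
    have : ∀ j, j = i := by
      intro j
      obtain ⟨t, rfl⟩ := MulAction.exists_smul_eq T i j
      exact MulAction.mem_stabilizer_iff.1 (htop ▸ mem_top t)
    have h1 : Fintype.card I ≤ 1 := Fintype.card_le_one_iff.2 fun a b => (this a).trans (this b).symm
    omega
  have hT' : IsPGroup 2 (T : Type _) := hT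
  obtain ⟨s, -, h1, h2, h3, -⟩ := exists_half hT' hst i le_rfl
  refine ⟨s.toFinset, Set.toFinset_nonempty.2 h1, ?_, fun t ht => ?_⟩
  · obtain ⟨x, hx⟩ := h2
    exact ⟨x, by rw [Finset.mem_compl, Set.mem_toFinset]; exact hx⟩
  · rcases h3 ⟨t, ht⟩ with h4 | h4
    · left
      intro a b e
      have : b = (⟨t, ht⟩ : T) • a := hinj (by rw [hact]; exact e.symm)
      rw [Set.mem_toFinset, Set.mem_toFinset, this, h4]
    · right
      intro a b e
      have : b = (⟨t, ht⟩ : T) • a := hinj (by rw [hact]; exact e.symm)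
      rw [Set.mem_toFinset, Set.mem_toFinset, this, h4]

open Classical in
/-- **The core of (N5)**: there are at most two indices. -/
theorem Core.card_le [Finite G] {T : Subgroup G} (h : Core C W z v Y (Half T z)) (hT : IsPGroup 2 T)
    (hTC : T ≤ C) (hinj : Function.Injective z) (perm : ∀ t ∈ T, ∀ i, ∃ j, t * z i * t⁻¹ = z j)
    (trans : ∀ i j, ∃ t ∈ T, t * z i * t⁻¹ = z j) : Fintype.card I ≤ 2 := by
  by_contra hcard
  push Not at hcard
  have c := h.wc
  have hne : Nonempty I := Fintype.card_pos_iff.1 (by omega)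
  obtain ⟨i⟩ := hne
  -- the action of `T`
  choose f hf using fun (t : T) (i : I) => perm t t.2 i
  let act : MulAction T I :=
    { smul := f
      one_smul := fun j => hinj (by
        change z (f 1 j) = z j
        rw [← hf]
        simp)
      mul_smul := fun a b j => hinj (by
        change z (f (a * b) j) = z (f a (f b j))
        rw [← hf, ← hf, ← hf]
        push_cast
        group) }
  have hact : ∀ (t : T) (j : I), z (t • j) = t * z j * (t : G)⁻¹ := fun t j => (hf t j).symm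
  have : MulAction.IsPretransitive T I := ⟨fun a b => by
    obtain ⟨t, ht, e⟩ := trans a b
    exact ⟨⟨t, ht⟩, hinj (by rw [hact]; exact e)⟩⟩
  -- a halving of the action gives a `Half`
  have mk : ∀ s : Set I, s.Nonempty → sᶜ.Nonempty →
      (∀ a : T, (∀ j, a • j ∈ s ↔ j ∈ s) ∨ (∀ j, a • j ∈ s ↔ j ∉ s)) → Half T z s.toFinset := by
    intro s h1 h2 h3
    refine ⟨Set.toFinset_nonempty.2 h1, ?_, fun t ht => ?_⟩
    · obtain ⟨x, hx⟩ := h2
      exact ⟨x, by rw [Finset.mem_compl, Set.mem_toFinset]; exact hx⟩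
    · rcases h3 ⟨t, ht⟩ with h4 | h4
      · left
        intro a b e
        have : b = (⟨t, ht⟩ : T) • a := hinj (by rw [hact]; exact e.symm)
        rw [Set.mem_toFinset, Set.mem_toFinset, this, h4]
      · right
        intro a b e
        have : b = (⟨t, ht⟩ : T) • a := hinj (by rw [hact]; exact e.symm)
        rw [Set.mem_toFinset, Set.mem_toFinset, this, h4]
  -- the stabiliser of the component of `z i`
  let K : Subgroup T :=
    { carrier := {t | Cmp C W (z i) (z (t • i))}
      one_mem' := by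
        change Cmp C W (z i) (z ((1 : T) • i))
        rw [one_smul]
        exact Relation.ReflTransGen.refl
      mul_mem' := by
        intro a b ha hb
        change Cmp C W (z i) (z ((a * b) • i))
        have h1 : Cmp C W (z (a • i)) (z (a • b • i)) := by
          rw [hact, hact a]
          exact cmp_conj c hb (hTC a.2)
        rw [mul_smul]
        exact cmp_trans ha h1
      inv_mem' := by
        intro a ha
        change Cmp C W (z i) (z (a⁻¹ • i))
        have h1 : Cmp C W (z (a⁻¹ • i)) (z (a⁻¹ • a • i)) := by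
          rw [hact, hact a⁻¹]
          exact cmp_conj c ha (hTC (a⁻¹).2)
        rw [inv_smul_smul] at h1
        exact cmp_symm c (h.zW _) (h.z1 _) h1 }
  have hKmem : ∀ t : T, t ∈ K ↔ Cmp C W (z i) (z (t • i)) := fun t => Iff.rfl
  have hstab : MulAction.stabilizer T i ≤ K := by
    intro t ht
    rw [hKmem, MulAction.mem_stabilizer_iff.1 ht]
    exact Relation.ReflTransGen.refl
  have hT' : IsPGroup 2 (T : Type _) := hT
  by_cases hK : K = ⊤
  · -- one component
    have hall : ∀ j, Cmp C W (z i) (z j) := by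
      intro j
      obtain ⟨t, rfl⟩ := MulAction.exists_smul_eq T i j
      exact (hKmem t).1 (hK ▸ mem_top t)
    have hst : MulAction.stabilizer T i ≠ ⊤ := by
      intro htop
      have : ∀ j, j = i := by
        intro j
        obtain ⟨t, rfl⟩ := MulAction.exists_smul_eq T i j
        exact MulAction.mem_stabilizer_iff.1 (htop ▸ mem_top t)
      have h1 : Fintype.card I ≤ 1 := Fintype.card_le_one_iff.2 fun a b => (this a).trans (this b).symm
      omega
    obtain ⟨s, -, s1, s2, s3, a, ha⟩ := exists_half hT' hst i le_rfl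
    have hs := mk s s1 s2 s3
    have hodd := (h.odd hs i).1
    have hfil : (s.toFinset.filter fun l => Cmp C W (z i) (z l)) = s.toFinset :=
      Finset.filter_true_of_mem fun l _ => hall l
    rw [hfil] at hodd
    -- `|s| = |sᶜ|`
    have hcc : s.toFinset.card = (s.toFinset)ᶜ.card := by
      apply Finset.card_bij (fun j _ => a • j)
      · intro j hj
        rw [Finset.mem_compl, Set.mem_toFinset, ha]
        exact fun h1 => h1 (Set.mem_toFinset.1 hj)
      · intro x _ y _ e
        exact MulAction.injective a e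
      · intro j hj
        rw [Finset.mem_compl, Set.mem_toFinset] at hj
        refine ⟨a⁻¹ • j, ?_, smul_inv_smul a j⟩
        rw [Set.mem_toFinset]
        by_contra h1
        apply hj
        have := (ha (a⁻¹ • j)).2 h1
        rwa [smul_inv_smul] at this
    have htot := Finset.card_add_card_compl s.toFinset
    -- `|I|` is a power of 2
    have : Fact (Nat.Prime 2) := ⟨Nat.prime_two⟩
    obtain ⟨n, hn⟩ := hT'.card_orbit i
    have hcI : Fintype.card I = 2 ^ n := by
      rw [← hn, MulAction.orbit_eq_univ, ← Nat.card_eq_fintype_card]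
      exact (Nat.card_congr (Equiv.Set.univ I)).symm
    obtain ⟨m, hm⟩ := hodd
    rcases n with _ | _ | n
    · omega
    · omega
    · rw [pow_succ, pow_succ] at hcI
      omega
  · -- several components
    obtain ⟨s, s0, s1, s2, s3, -⟩ := exists_half hT' hK i hstab
    have hs := mk s s1 s2 s3
    have hodd := (h.odd hs i).2
    have hfil : ((s.toFinset)ᶜ.filter fun l => Cmp C W (z i) (z l)) = ∅ := by
      rw [Finset.filter_eq_empty_iff]
      intro j hj hc
      rw [Finset.mem_compl, Set.mem_toFinset] at hj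
      apply hj
      obtain ⟨t, rfl⟩ := MulAction.exists_smul_eq T i j
      exact s0 t ((hKmem t).2 hc)
    rw [hfil] at hodd
    simp at hodd

end half

end Cfsg.Agent.Omega.NO1.WRFive
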