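import Cfsg.Agent.Omega.Half.AppNat
import Cfsg.Agent.Omega.NO1.WR.NFive
import Cfsg.Agent.ZN.Facts

/-!
# NatMany, step (N5) of text #15037 (helper675): the natural case

`M : NatK F S P V ⊥ k`, `C ≥ S`, `V ≰ O₂(C)`, `W` an elementary abelian 2-subgroup normalised by `C`,
`1 ≠ z i ∈ V_i ∩ W`, `S` permutes the `z i`, and every `v ∈ V_i` induces on `W` a transvection with
centre `z i` (or the identity).  Then `k ≤ 2`.
-/

set_option autoImplicit false

namespace Cfsg.Agent.Omega.NO1.WRFive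

open Subgroup Cfsg Cfsg.Agent.ZN Cfsg.Agent.Omega.FFThm Cfsg.Agent.Omega.MinPar
open Cfsg.Agent.Omega.Half Cfsg.Agent.Omega.Half.NatA

universe u

variable {G : Type u} [Group G] {F : Type} [Field F] {P V C W : Subgroup G} {k : ℕ}

/-- **(N5)** -/
theorem card_le_two [Finite G] (hG : IsCharacteristicTwoType G) (S : Sylow 2 G)
    (M : NatK F (S : Subgroup G) P V ⊥ k) (hA : Amb (S : Subgroup G) P V)
    (hSC : (S : Subgroup G) ≤ C) (hVQ : ¬ V ≤ o2 C)
    (hWC : C ≤ normalizer (W : Set G)) (hWc : ∀ a ∈ W, ∀ b ∈ W, a * b = b * a) (hW2 : ∀ a ∈ W, a ^ 2 = 1)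
    {z : Fin k → G} (hz : ∀ i, z i ∈ fac M {i}) (hz1 : ∀ i, z i ≠ 1) (hzW : ∀ i, z i ∈ W)
    (hp : ∀ t ∈ (S : Subgroup G), ∀ i, ∃ j, t * z i * t⁻¹ = z j)
    (hc : ∀ i, ∀ v ∈ fac M {i}, ∀ w ∈ W, v * w * v⁻¹ = w ∨ v * w * v⁻¹ = w * z i) : k ≤ 2 := by
  classical
  by_contra hk
  push Not at hk
  have hSp : IsPGroup 2 (S : Subgroup G) := S.isPGroup'
  -- coordinates of the `z i`
  have hzi : ∀ i, M.e (z i) i ≠ 0 := by
    intro i h0
    apply hz1 i
    apply eq_one M (hz i).1
    funext l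
    by_cases hl : l = i
    · rw [hl]; exact h0
    · exact (hz i).2 l hl
  have hinj : Function.Injective z := by
    intro i j e
    by_contra hij
    apply hzi i
    rw [e]
    exact (hz j).2 i hij
  have hmv : ∀ t ∈ (S : Subgroup G), ∀ σ, Mv M t σ → ∀ i j, t * z i * t⁻¹ = z j ↔ j = σ i := by
    have h1 : ∀ t ∈ (S : Subgroup G), ∀ σ, Mv M t σ → ∀ i j, t * z i * t⁻¹ = z j → j = σ i := by
      intro t ht σ hσ i j e
      by_contra hne
      have h1 := hσ (z i) (hz i).1 (σ.symm j)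
      rw [σ.apply_symm_apply, e] at h1
      have h2 : σ.symm j ≠ i := fun h => hne (by rw [← h, σ.apply_symm_apply])
      exact hzi j (h1.2 ((hz i).2 _ h2))
    intro t ht σ hσ i j
    refine ⟨h1 t ht σ hσ i j, ?_⟩
    rintro rfl
    obtain ⟨j, hj⟩ := hp t ht i
    rw [hj, h1 t ht σ hσ i j hj]
  have htr : ∀ i j, ∃ t ∈ (S : Subgroup G), t * z i * t⁻¹ = z j := by
    intro i j
    obtain ⟨t, ht, h1⟩ := M.trans i j
    obtain ⟨σ, hσ⟩ := exists_mv (M := M) hA ht
    exact ⟨t, ht, (hmv t ht σ hσ i j).2 (hσ.unique M hA (hA.TH ht) h1).symm⟩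
  -- halves are blocks
  have hblk : ∀ s : Finset (Fin k), Half (S : Subgroup G) z s → Blk M (s : Set (Fin k)) := by
    intro s hs
    refine ⟨hs.1, ?_, fun t ht σ hσ => ?_⟩
    · obtain ⟨x, hx⟩ := hs.2.1
      exact ⟨x, fun h => (Finset.mem_compl.1 hx) h⟩
    · rcases hs.2.2 t ht with h1 | h1
      · left
        ext j
        constructor
        · rintro ⟨i, hi, rfl⟩
          exact (h1 i (σ i) ((hmv t ht σ hσ i _).2 rfl)).2 hi
        · intro hj
          refine ⟨σ.symm j, ?_, σ.apply_symm_apply j⟩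
          exact (h1 (σ.symm j) j ((hmv t ht σ hσ _ _).2 (σ.apply_symm_apply j).symm)).1 hj
      · right
        ext j
        constructor
        · rintro ⟨i, hi, rfl⟩ h2
          exact (h1 i (σ i) ((hmv t ht σ hσ i _).2 rfl)).1 h2 hi
        · intro hj
          refine ⟨σ.symm j, ?_, σ.apply_symm_apply j⟩
          by_contra h2
          exact hj ((h1 (σ.symm j) j ((hmv t ht σ hσ _ _).2 (σ.apply_symm_apply j).symm)).2 h2)
  -- the products
  have hY : ∀ s : Finset (Fin k), ∃ y ∈ fac M (s : Set (Fin k)), ∀ i ∈ s, M.e y i = M.e (z i) i := by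
    intro s
    obtain ⟨y, hy, h1⟩ := exists_fac M (s : Set (Fin k)) fun i => M.e (z i) i
    exact ⟨y, hy, fun i hi => h1 i hi⟩
  choose Y hYm hYe using hY
  have hY0 : Y ∅ = 1 := by
    apply eq_one M (hYm ∅).1
    funext l
    exact (hYm ∅).2 l (by simp)
  have hYi : ∀ a s, a ∉ s → Y (insert a s) = z a * Y s := by
    intro a s ha
    apply inj M (hYm _).1 (mul_mem (hz a).1 (hYm s).1)
    funext l
    rw [M.mul _ (hz a).1 _ (hYm s).1, Pi.add_apply]
    by_cases hl : l = a
    · subst hl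
      rw [hYe _ l (Finset.mem_insert_self l s), (hYm s).2 l (by simpa using ha), add_zero]
    · rw [(hz a).2 l hl, zero_add]
      by_cases hls : l ∈ s
      · rw [hYe _ l (Finset.mem_insert_of_mem hls), hYe s l hls]
      · rw [(hYm s).2 l (by simpa using hls), (hYm _).2 l (by simp [hl, hls])]
  have hfull : ∀ s : Finset (Fin k), ∀ i ∈ (s : Set (Fin k)), M.e (Y s) i ≠ 0 := by
    intro s i hi
    rw [hYe s i hi]
    exact hzi i
  -- (KL)
  have hKL : ∀ s : Finset (Fin k), Half (S : Subgroup G) z s →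
      fac M (s : Set (Fin k))ᶜ ≤ o2 (centralizer ({Y s} : Set G)) := fun s hs =>
    (app_nat hG S hA (hblk s hs) (hYm s) (hfull s)).1
  have hmemC : ∀ s : Finset (Fin k), ∀ i ∉ s, ∀ v ∈ fac M {i}, v ∈ fac M (s : Set (Fin k))ᶜ := by
    intro s i hi v hv
    refine ⟨hv.1, fun l hl => hv.2 l ?_⟩
    rintro rfl
    exact hl hi
  have hcen : ∀ s : Finset (Fin k), ∀ g : G, g * Y s * g⁻¹ = Y s → g ∈ centralizer ({Y s} : Set G) := by
    intro s g hg
    rw [mem_centralizer_singleton_iff]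
    calc g * Y s = (g * Y s * g⁻¹) * g := by group
      _ = Y s * g := by rw [hg]
  -- `nt`
  have hnt : ∀ i, ∃ v ∈ fac M {i}, ∃ c ∈ C, v * (c * z i * c⁻¹) * v⁻¹ ≠ c * z i * c⁻¹ := by
    intro i
    by_contra hcon
    push Not at hcon
    apply hVQ
    -- `D` centralises all conjugates of `z i`
    let D : Subgroup G := C ⊓ centralizer {p | ∃ c ∈ C, p = c * z i * c⁻¹}
    have hD : ∀ x, x ∈ D ↔ x ∈ C ∧ ∀ c ∈ C, x * (c * z i * c⁻¹) * x⁻¹ = c * z i * c⁻¹ := by
      intro x
      constructor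
      · rintro ⟨h1, h2⟩
        refine ⟨h1, fun c hc => ?_⟩
        have h3 := mem_centralizer_iff.1 h2 _ ⟨c, hc, rfl⟩
        rw [← h3]; group
      · rintro ⟨h1, h2⟩
        refine ⟨h1, mem_centralizer_iff.2 ?_⟩
        rintro _ ⟨c, hc, rfl⟩
        have h3 := h2 c hc
        calc c * z i * c⁻¹ * x = (x * (c * z i * c⁻¹) * x⁻¹) * x := by rw [h3]
          _ = x * (c * z i * c⁻¹) := by group
    have hDc : ∀ c ∈ C, ∀ x ∈ D, c * x * c⁻¹ ∈ D := by
      intro c hc x hx
      rw [hD] at hx ⊢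
      refine ⟨mul_mem (mul_mem hc hx.1) (inv_mem hc), fun d hd => ?_⟩
      have h3 := hx.2 (c⁻¹ * d) (mul_mem (inv_mem hc) hd)
      calc c * x * c⁻¹ * (d * z i * d⁻¹) * (c * x * c⁻¹)⁻¹
          = c * (x * (c⁻¹ * d * z i * (c⁻¹ * d)⁻¹) * x⁻¹) * c⁻¹ := by group
        _ = d * z i * d⁻¹ := by rw [h3]; group
    have hDn : C ≤ normalizer (D : Set G) := by
      intro c hc
      rw [mem_normalizer_iff]
      intro x
      refine ⟨hDc c hc x, fun h1 => ?_⟩
      have h2 := hDc c⁻¹ (inv_mem hc) _ h1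
      rwa [show c⁻¹ * (c * x * c⁻¹) * c⁻¹⁻¹ = x from by group] at h2
    have hDz : ∀ x ∈ D, ∀ l, x * z l * x⁻¹ = z l := by
      intro x hx l
      obtain ⟨t, ht, e⟩ := htr i l
      rw [← e]
      exact ((hD x).1 hx).2 t (hSC ht)
    have hDY : ∀ x ∈ D, ∀ s, x * Y s * x⁻¹ = Y s := by
      intro x hx s
      induction s using Finset.induction_on with
      | empty => rw [hY0]; group
      | insert a s ha ih =>
        rw [hYi a s ha]
        calc x * (z a * Y s) * x⁻¹ = (x * z a * x⁻¹) * (x * Y s * x⁻¹) := by group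
          _ = z a * Y s := by rw [hDz x hx, ih]
    -- all summands are conjugate under `S`
    have hcj : ∀ a b, ∃ t ∈ (S : Subgroup G), ∀ v ∈ fac M {b}, t⁻¹ * v * t ∈ fac M {a} := by
      intro a b
      obtain ⟨t, ht, h1⟩ := M.trans a b
      obtain ⟨σ, hσ⟩ := exists_mv (M := M) hA ht
      have h2 := hσ.unique M hA (hA.TH ht) h1
      refine ⟨t, ht, fun v hv => ?_⟩
      have h3 := (hσ.inv M hA (hA.TH ht)).conj M hA (inv_mem (hA.TH ht)) hv
      rw [Set.image_singleton, ← h2, σ.symm_apply_apply, inv_inv] at h3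
      exact h3
    have hfD : ∀ j, fac M {j} ≤ D := by
      intro j v hv
      obtain ⟨t, ht, h1⟩ := hcj i j
      have h2 : t⁻¹ * v * t ∈ D :=
        (hD _).2 ⟨hSC (hA.VT (h1 v hv).1), fun c hc => hcon _ (h1 v hv) c hc⟩
      have h3 := hDc t (hSC ht) _ h2
      rwa [show t * (t⁻¹ * v * t) * t⁻¹ = v from by group] at h3
    have ho2D : o2 D ≤ o2 C := by
      refine le_o2 ((o2_le D).trans inf_le_left) (isPGroup_o2 D) ?_
      exact hDn.trans (normalizer_le_normalizer_o2 D)
    obtain ⟨s, hs⟩ := exists_Half (z := z) hSp hinj hp htr (by rw [Fintype.card_fin]; omega)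
    have hU : o2 (centralizer ({Y s} : Set G)) ⊓ D ≤ o2 D := by
      refine le_o2 inf_le_right ((isPGroup_o2 _).to_le inf_le_left) fun x hx => ?_
      have hx1 : x ∈ normalizer (o2 (centralizer ({Y s} : Set G)) : Set G) :=
        le_normalizer_o2 _ (hcen s x (hDY x hx s))
      rw [mem_normalizer_iff] at hx1 ⊢
      intro y
      have hxi : x⁻¹ ∈ D := inv_mem hx
      have h3 : y ∈ D ↔ x * y * x⁻¹ ∈ D := by
        refine ⟨fun h => mul_mem (mul_mem hx h) hxi, fun h => ?_⟩
        have := mul_mem (mul_mem hxi h) hx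
        rwa [show x⁻¹ * (x * y * x⁻¹) * x = y from by group] at this
      exact and_congr (hx1 y) h3
    obtain ⟨j, hj⟩ := hs.2.1
    rw [Finset.mem_compl] at hj
    have hfj : fac M {j} ≤ o2 C := fun v hv =>
      ho2D (hU ⟨hKL s hs (hmemC s j hj v hv), hfD j hv⟩)
    have hfl : ∀ l, fac M {l} ≤ o2 C := by
      intro l v hv
      obtain ⟨t, ht, h1⟩ := hcj j l
      have h2 := hfj (h1 v hv)
      have h3 := (mem_normalizer_iff.1 (le_normalizer_o2 C (hSC ht)) _).1 h2
      rwa [show t * (t⁻¹ * v * t) * t⁻¹ = v from by group] at h3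
    have hall : ∀ s : Finset (Fin k), ∀ v ∈ fac M (s : Set (Fin k)), v ∈ o2 C := by
      intro s
      induction s using Finset.induction_on with
      | empty =>
        intro v hv
        have : v = 1 := by
          apply eq_one M hv.1
          funext l
          exact hv.2 l (by simp)
        rw [this]; exact one_mem _
      | insert a s ha ih =>
        intro v hv
        obtain ⟨w, hw, hwa⟩ := exists_fac M {a} (M.e v)
        have h1 : w⁻¹ * v ∈ fac M (s : Set (Fin k)) := by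
          refine ⟨mul_mem (inv_mem hw.1) hv.1, fun l hl => ?_⟩
          rw [M.mul _ (inv_mem hw.1) _ hv.1, e_inv M hw.1, Pi.add_apply, Pi.neg_apply]
          by_cases hla : l = a
          · rw [hla, hwa a rfl, neg_add_cancel]
          · rw [hw.2 l hla, neg_zero, zero_add]
            apply hv.2
            rw [Finset.coe_insert]
            rintro (h | h)
            · exact hla h
            · exact hl h
        have h2 := mul_mem (hfl a hw) (ih _ h1)
        rwa [mul_inv_cancel_left] at h2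
    intro v hv
    exact hall Finset.univ v ⟨hv, fun l hl => absurd (Finset.mem_coe.2 (Finset.mem_univ l)) hl⟩
  choose v hv c hcC hvc using hnt
  -- the core
  have hcore : Core C W z v Y (Half (S : Subgroup G) z) :=
    { wc := ⟨fun c hc w hw => (mem_normalizer_iff.1 (hWC hc) w).1 hw, hWc, fun a ha => by
        have := hW2 a ha
        rwa [pow_two] at this⟩
      zW := hzW
      z1 := hz1
      orb := fun i j => by
        obtain ⟨t, ht, e⟩ := htr i j
        exact ⟨t, hSC ht, e.symm⟩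
      tv := fun i => ⟨hSC (hA.VT (hv i).1), hc i (v i) (hv i)⟩
      vz := fun i j => by
        rw [hA.comm _ (hv i).1 _ (hz j).1]; group
      Y0 := hY0
      Yi := hYi
      nt := fun i => ⟨c i, hcC i, ph_one.2 (hvc i)⟩
      compl := fun s hs => hs.compl
      kl := fun s hs i hi g hg hgY => by
        have h1 : v i ∈ o2 (centralizer ({Y s} : Set G)) := hKL s hs (hmemC s i hi _ (hv i))
        have h2 : g * v i * g⁻¹ ∈ o2 (centralizer ({Y s} : Set G)) :=
          (mem_normalizer_iff.1 (le_normalizer_o2 _ (hcen s g hgY)) _).1 h1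
        obtain ⟨n, hn⟩ := (isPGroup_o2 (centralizer ({Y s} : Set G))) ⟨_, mul_mem h1 h2⟩
        exact ⟨n, by simpa using congrArg Subtype.val hn⟩ }
  have := hcore.card_le hSp hSC hinj hp htr
  rw [Fintype.card_fin] at this
  omega

end Cfsg.Agent.Omega.NO1.WRFive
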